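import Mathlib

/-!
Two distinct powers of two do not sum to a power of two modulo `(2 ^ n - 1) / d` when `d ∣ n`.
-/

namespace CfsgLib.PGroup.SuzukiExp

/-- Rotate `x` backwards by `s` on `n` points. -/
def rot (n s x : ℕ) : ℕ := if s ≤ x then x - s else x + n - s

theorem exists_window {n a b c : ℕ} (ha : a < n) (hb : b < n) (hc : c < n) :
    ∃ s < n, 3 * rot n s a ≤ 2 * n ∧ 3 * rot n s b ≤ 2 * n ∧ 3 * rot n s c ≤ 2 * n := by
  by_contra h
  push Not at h
  have h1 := h a ha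
  have h2 := h b hb
  have h3 := h c hc
  unfold rot at h1 h2 h3
  split_ifs at h1 h2 h3 <;> omega

theorem rot_lt {n s x : ℕ} (hs : s < n) (hx : x < n) : rot n s x < n := by
  unfold rot; split_ifs <;> omega

theorem rot_inj {n s x y : ℕ} (hs : s < n) (hx : x < n) (hy : y < n)
    (h : rot n s x = rot n s y) : x = y := by
  unfold rot at h; split_ifs at h <;> omega

theorem pow_rot {n m s x : ℕ} (hm : 2 ^ n ≡ 1 [MOD m]) (hs : s < n) (hx : x < n) :
    2 ^ x * 2 ^ (n - s) ≡ 2 ^ rot n s x [MOD m] := by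
  unfold rot
  split_ifs with h
  · rw [← pow_add, show x + (n - s) = x - s + n by omega, pow_add]
    simpa using (Nat.ModEq.refl (2 ^ (x - s))).mul hm
  · rw [← pow_add, show x + (n - s) = x + n - s by omega]

theorem add_pow_ne {a b : ℕ} (hab : a ≠ b) (c : ℕ) : 2 ^ a + 2 ^ b ≠ 2 ^ c := by
  wlog h : a < b generalizing a b
  · rw [Nat.add_comm]; exact this (Ne.symm hab) (by omega)
  intro e
  have h1 := Nat.two_pow_pos a
  have h2 : 2 ^ a < 2 ^ b := Nat.pow_lt_pow_right one_lt_two h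
  rcases le_or_gt c b with hc | hc
  · have := Nat.pow_le_pow_right (show 0 < 2 by omega) hc
    omega
  · have := Nat.pow_le_pow_right (show 0 < 2 by omega) (show b + 1 ≤ c from hc)
    rw [pow_succ] at this
    omega

theorem small_case : ∀ n ∈ [2, 3, 6], ∀ d ≤ n, d ∣ n → d ∣ 2 ^ n - 1 → ∀ a < n, ∀ b < n, ∀ c < n,
    a ≠ b → (2 ^ a + 2 ^ b) % ((2 ^ n - 1) / d) ≠ 2 ^ c % ((2 ^ n - 1) / d) := by
  decide

theorem gcd_bound {n : ℕ} (h2 : 2 ≤ n) (hn : n ∉ [2, 3, 6]) {d : ℕ} (hdn : d ∣ n)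
    (hdN : d ∣ 2 ^ n - 1) {L : ℕ} (hL : 3 * L ≤ 2 * n) : d * 2 ^ (L + 1) < 2 ^ n - 1 := by
  simp only [List.mem_cons, List.not_mem_nil, or_false, not_or] at hn
  rcases lt_or_ge n 14 with hlt | hge
  · have h1 := Nat.le_of_dvd (Nat.gcd_pos_of_pos_left _ (by omega)) (Nat.dvd_gcd hdn hdN)
    have h2' : 2 ^ (L + 1) ≤ 2 ^ (2 * n / 3 + 1) := Nat.pow_le_pow_right (by omega) (by omega)
    refine lt_of_le_of_lt (Nat.mul_le_mul h1 h2') ?_
    interval_cases n <;> first | omega | norm_num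
  · have key : ∀ j : ℕ, 4 ≤ j → 3 * j + 3 < 2 ^ j := by
      intro j hj
      induction j, hj using Nat.le_induction with
      | base => norm_num
      | succ j _ ih => rw [pow_succ]; omega
    have hk := key (n - L - 1) (by omega)
    have hd : d < 2 ^ (n - L - 1) := lt_of_le_of_lt (Nat.le_of_dvd (by omega) hdn) (by omega)
    have h3 : d * 2 ^ (L + 1) < 2 ^ n := by
      calc d * 2 ^ (L + 1) < 2 ^ (n - L - 1) * 2 ^ (L + 1) :=
            Nat.mul_lt_mul_of_pos_right hd (Nat.two_pow_pos _)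
        _ = 2 ^ n := by rw [← pow_add]; congr 1; omega
    have h4 : 2 ∣ d * 2 ^ (L + 1) := Dvd.dvd.mul_left (dvd_pow_self 2 (by omega)) d
    have h5 : 2 ∣ 2 ^ n := dvd_pow_self 2 (by omega)
    omega

/-- No sum of two distinct powers of two is congruent to a power of two. -/
theorem not_modEq {n m d : ℕ} (hn : 2 ≤ n) (hmd : m * d = 2 ^ n - 1) (hdn : d ∣ n) {a b c : ℕ}
    (ha : a < n) (hb : b < n) (hc : c < n) (hab : a ≠ b) : ¬ 2 ^ a + 2 ^ b ≡ 2 ^ c [MOD m] := by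
  intro h
  have hN : d ∣ 2 ^ n - 1 := Dvd.intro_left m hmd
  have h1 := Nat.one_le_two_pow (n := n)
  have hd0 : 0 < d := Nat.pos_of_dvd_of_pos hdn (by omega)
  by_cases hs : n ∈ [2, 3, 6]
  · refine small_case n hs d (Nat.le_of_dvd (by omega) hdn) hdn hN a ha b hb c hc hab ?_
    rwa [← hmd, Nat.mul_div_cancel _ hd0]
  obtain ⟨s, hsn, hA, hB, hC⟩ := exists_window ha hb hc
  have hm : 2 ^ n ≡ 1 [MOD m] := ((Nat.modEq_iff_dvd' h1).2 (Dvd.intro d hmd)).symm
  have h' : 2 ^ rot n s a + 2 ^ rot n s b ≡ 2 ^ rot n s c [MOD m] := by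
    refine ((pow_rot hm hsn ha).add (pow_rot hm hsn hb)).symm.trans ?_
    rw [← add_mul]
    exact (h.mul_right _).trans (pow_rot hm hsn hc)
  obtain ⟨L, hL, hLa, hLb, hLc⟩ : ∃ L, 3 * L ≤ 2 * n ∧ rot n s a ≤ L ∧ rot n s b ≤ L ∧
      rot n s c ≤ L := ⟨2 * n / 3, by omega, by omega, by omega, by omega⟩
  have hbound := gcd_bound hn hs hdn hN hL
  have hne := add_pow_ne (fun e => hab (rot_inj hsn ha hb e)) (rot n s c)
  set X := 2 ^ rot n s a + 2 ^ rot n s b
  set Y := 2 ^ rot n s c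
  have hX : X ≤ 2 ^ (L + 1) := by
    have := Nat.pow_le_pow_right (show 0 < 2 by omega) hLa
    have := Nat.pow_le_pow_right (show 0 < 2 by omega) hLb
    rw [pow_succ]; omega
  have hY : Y ≤ 2 ^ (L + 1) := Nat.pow_le_pow_right (by omega) (by omega)
  have hlt : 2 ^ (L + 1) < m := by
    by_contra hge
    push Not at hge
    have := Nat.mul_le_mul_left d hge
    rw [Nat.mul_comm d m, hmd] at this
    omega
  exact hne (h'.eq_of_lt_of_lt (lt_of_le_of_lt hX hlt) (lt_of_le_of_lt hY hlt))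

end CfsgLib.PGroup.SuzukiExp
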