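import Mathlib

/-!
Eigencoordinates of an elementary abelian section `H / N` irreducible under an automorphism `φ`,
and coefficient comparison for (bi)additive and quadratic functions in these coordinates.
-/

set_option autoImplicit false

namespace CfsgLib.PGroup.SuzukiExp

open Finset

/-- An algebraic closure of the field with two elements. -/
abbrev K := AlgebraicClosure (ZMod 2)

theorem pow_two_pow_mod {x : K} {l : ℕ} (h : x ^ 2 ^ l = x) (k : ℕ) :
    x ^ 2 ^ (k % l) = x ^ 2 ^ k := by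
  have hq : ∀ q : ℕ, x ^ 2 ^ (l * q) = x := by
    intro q
    induction q with
    | zero => simp
    | succ q ih => rw [Nat.mul_succ, pow_add, pow_mul, ih, h]
  conv_rhs => rw [← Nat.div_add_mod k l, pow_add, pow_mul, hq]

variable {G : Type*} [Group G]

/-- Eigencoordinates on the section `H / N` for `φ`. -/
structure Weights (φ : MulAut G) (H N : Subgroup G) where
  l : ℕ
  pos : 0 < l
  η : K
  ξ : G → K
  inv : ∀ a ∈ H, φ a ∈ H
  map_mul : ∀ a ∈ H, ∀ b ∈ H, ξ (a * b) = ξ a + ξ b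
  zero_iff : ∀ a ∈ H, ξ a = 0 ↔ a ∈ N
  act : ∀ a ∈ H, ξ (φ a) = η * ξ a
  val : ∀ a ∈ H, ξ a ^ 2 ^ l = ξ a
  η_per : η ^ 2 ^ l = η
  η_inj : ∀ i < l, ∀ j < l, η ^ 2 ^ i = η ^ 2 ^ j → i = j
  η_ne : η ≠ 0
  exists_ne : ∃ a ∈ H, a ∉ N

namespace Weights

variable {φ : MulAut G} {H N : Subgroup G} (W : Weights φ H N)

instance : NeZero W.l := ⟨W.pos.ne'⟩

/-- The `p`-th eigencoordinate. -/
noncomputable def y (p : Fin W.l) (a : G) : K := W.ξ a ^ 2 ^ (p : ℕ)

/-- The `p`-th eigenvalue. -/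
noncomputable def w (p : Fin W.l) : K := W.η ^ 2 ^ (p : ℕ)

theorem w_zero : W.w 0 = W.η := by simp [w]

theorem w_succ (p : Fin W.l) : W.w (p + 1) = W.w p ^ 2 := by
  rw [w, w, ← pow_mul, ← pow_succ, Fin.val_add, Fin.coe_ofNat_eq_mod, Nat.add_mod_mod,
    pow_two_pow_mod W.η_per]

theorem w_inj : Function.Injective W.w :=
  fun p q h => Fin.ext (W.η_inj p p.2 q q.2 h)

theorem w_ne (p : Fin W.l) : W.w p ≠ 0 := pow_ne_zero _ W.η_ne

theorem w_per (p : Fin W.l) : W.w p ^ 2 ^ W.l = W.w p := by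
  rw [w, pow_right_comm, W.η_per]

theorem y_zero_apply (a : G) : W.y 0 a = W.ξ a := by simp [y]

theorem y_succ (p : Fin W.l) {a : G} (ha : a ∈ H) : W.y (p + 1) a = W.y p a ^ 2 := by
  rw [y, y, ← pow_mul, ← pow_succ, Fin.val_add, Fin.coe_ofNat_eq_mod, Nat.add_mod_mod,
    pow_two_pow_mod (W.val a ha)]

theorem y_mul (p : Fin W.l) {a b : G} (ha : a ∈ H) (hb : b ∈ H) :
    W.y p (a * b) = W.y p a + W.y p b := by
  haveI := Fact.mk Nat.prime_two
  rw [y, y, y, W.map_mul a ha b hb, add_pow_char_pow]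

theorem y_act (p : Fin W.l) {a : G} (ha : a ∈ H) : W.y p (φ a) = W.w p * W.y p a := by
  rw [y, y, w, W.act a ha, mul_pow]

theorem y_eq_zero (p : Fin W.l) {a : G} (ha : a ∈ H) : W.y p a = 0 ↔ a ∈ N := by
  rw [y, pow_eq_zero_iff (pow_ne_zero _ two_ne_zero), W.zero_iff a ha]

theorem one_y (p : Fin W.l) : W.y p 1 = 0 := by
  have h := W.y_mul p H.one_mem H.one_mem
  rw [one_mul] at h
  exact left_eq_add.1 h

include W in
theorem orb_mem (t : ℕ) {a : G} (ha : a ∈ H) : (φ ^ t) a ∈ H := by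
  induction t with
  | zero => exact ha
  | succ t ih => rw [pow_succ']; exact W.inv _ ih

theorem y_act_pow (p : Fin W.l) (t : ℕ) {a : G} (ha : a ∈ H) :
    W.y p ((φ ^ t) a) = W.w p ^ t * W.y p a := by
  induction t with
  | zero => rw [pow_zero, pow_zero, one_mul]; rfl
  | succ t ih =>
    rw [pow_succ' φ, MulAut.mul_apply, W.y_act p (W.orb_mem t ha), ih, pow_succ', mul_assoc]

/-- The coordinates are linearly independent as functions on `H`. -/
theorem indep {a : Fin W.l → K} (h : ∀ g ∈ H, ∑ p, a p * W.y p g = 0) : a = 0 := by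
  obtain ⟨g, hg, hgN⟩ := W.exists_ne
  have h1 : (fun p => a p * W.y p g) = 0 :=
    Matrix.eq_zero_of_forall_pow_sum_mul_pow_eq_zero W.w_inj fun t => by
      have h2 := h _ (W.orb_mem t hg)
      simp only [W.y_act_pow _ _ hg] at h2
      rw [← h2]
      exact sum_congr rfl fun p _ => by ring
  funext p
  exact (mul_eq_zero.1 (congrFun h1 p)).resolve_right fun e => hgN ((W.y_eq_zero p hg).1 e)

theorem coeff_unique {a b : Fin W.l → K}
    (h : ∀ g ∈ H, ∑ p, a p * W.y p g = ∑ p, b p * W.y p g) : a = b := by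
  refine sub_eq_zero.1 (W.indep fun g hg => ?_)
  simp only [Pi.sub_apply, sub_mul, sum_sub_distrib, h g hg, sub_self]

/-- A subgroup containing `N` and an orbit not in `N` contains `H`. -/
theorem mem_of_orbit (X : Subgroup G) (hN : ∀ a ∈ H, a ∈ N → a ∈ X) {g₀ : G} (hg₀ : g₀ ∈ H)
    (hg₀N : g₀ ∉ N) (horb : ∀ t : ℕ, t < W.l → (φ ^ t) g₀ ∈ X) : ∀ g ∈ H, g ∈ X := by
  classical
  have hx0 : W.ξ g₀ ≠ 0 := fun e => hg₀N ((W.zero_iff g₀ hg₀).1 e)
  let val : Finset (Fin W.l) → K := fun S => ∑ t ∈ S, W.η ^ (t : ℕ) * W.ξ g₀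
  have hval : ∀ S, ∃ h ∈ H, h ∈ X ∧ W.ξ h = val S := by
    intro S
    induction S using Finset.induction_on with
    | empty => exact ⟨1, H.one_mem, X.one_mem, by rw [(W.zero_iff 1 H.one_mem).2 N.one_mem]; rfl⟩
    | @insert t S ht ih =>
      obtain ⟨h, hh, hX, hξ⟩ := ih
      refine ⟨(φ ^ (t : ℕ)) g₀ * h, H.mul_mem (W.orb_mem _ hg₀) hh,
        X.mul_mem (horb t t.2) hX, ?_⟩
      rw [W.map_mul _ (W.orb_mem _ hg₀) _ hh, hξ]
      show _ = ∑ s ∈ insert t S, _
      rw [sum_insert ht, ← W.y_zero_apply, W.y_act_pow 0 _ hg₀, W.w_zero, W.y_zero_apply]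
  have hinj : Function.Injective val := by
    intro S S' e
    let v : Fin W.l → K := fun t => (if t ∈ S then 1 else 0) + (if t ∈ S' then 1 else 0)
    have hv : ∑ t, v t * W.η ^ (t : ℕ) = 0 := by
      apply mul_right_cancel₀ hx0
      simp only [v, add_mul, ite_mul, one_mul, zero_mul, sum_add_distrib, sum_ite_mem, univ_inter,
        sum_mul, mul_assoc]
      show val S + val S' = 0
      rw [e]; exact CharTwo.add_self_eq_zero _
    have h2 : v = 0 := Matrix.eq_zero_of_forall_index_sum_mul_pow_eq_zero W.w_inj fun p => by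
      have h3 := congrArg (fun x : K => x ^ 2 ^ (p : ℕ)) hv
      rw [sum_pow_char_pow, zero_pow (pow_ne_zero _ two_ne_zero)] at h3
      rw [← h3]
      refine sum_congr rfl fun t _ => ?_
      rw [mul_pow, w, pow_right_comm]
      congr 1
      simp only [v]
      split_ifs <;> simp [CharTwo.add_self_eq_zero, zero_pow (pow_ne_zero _ two_ne_zero)]
    ext t
    have h4 := congrFun h2 t
    simp only [v] at h4
    split_ifs at h4 with ha hb hb <;> simp_all
  intro g hg
  obtain ⟨S, hS⟩ : ∃ S, val S = W.ξ g := by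
    by_contra hno
    push Not at hno
    let P : Polynomial K := Polynomial.X ^ 2 ^ W.l - Polynomial.X
    have hdeg : P.natDegree = 2 ^ W.l :=
      FiniteField.X_pow_card_pow_sub_X_natDegree_eq K W.pos.ne' one_lt_two
    have hP0 : P ≠ 0 := fun e => by
      rw [e, Polynomial.natDegree_zero] at hdeg
      exact (Nat.two_pow_pos W.l).ne hdeg
    have hroot : ∀ x ∈ insert (W.ξ g) (Finset.univ.image val), x ∈ P.roots.toFinset := by
      intro x hx
      rw [Multiset.mem_toFinset, Polynomial.mem_roots hP0]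
      simp only [P, Polynomial.IsRoot.def, Polynomial.eval_sub, Polynomial.eval_pow,
        Polynomial.eval_X, sub_eq_zero]
      rcases Finset.mem_insert.1 hx with rfl | hx
      · exact W.val g hg
      · obtain ⟨S, -, rfl⟩ := Finset.mem_image.1 hx
        obtain ⟨h, hh, -, hξ⟩ := hval S
        rw [← hξ]; exact W.val h hh
    have hnot : W.ξ g ∉ Finset.univ.image val := by
      simp only [Finset.mem_image, not_exists, not_and]
      exact fun S _ => hno S
    have h5 := (card_le_card hroot).trans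
      ((Multiset.toFinset_card_le _).trans ((Polynomial.card_roots' P).trans hdeg.le))
    rw [card_insert_of_notMem hnot, card_image_of_injective _ hinj, card_univ,
      Fintype.card_finset, Fintype.card_fin] at h5
    omega
  obtain ⟨h, hh, hX, hξ⟩ := hval S
  have hd : g * h⁻¹ ∈ N := by
    rw [← W.zero_iff _ (H.mul_mem hg (H.inv_mem hh))]
    have e := W.map_mul _ (H.mul_mem hg (H.inv_mem hh)) _ hh
    rw [inv_mul_cancel_right, hξ, hS] at e
    exact right_eq_add.1 e
  simpa using X.mul_mem (hN _ (H.mul_mem hg (H.inv_mem hh)) hd) hX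

/-- Additive functions on `H` vanishing on `N` are combinations of the coordinates. -/
theorem span (f : G → K) (hf : ∀ a ∈ H, ∀ b ∈ H, f (a * b) = f a + f b)
    (hfN : ∀ a ∈ H, a ∈ N → f a = 0) :
    ∃ c : Fin W.l → K, ∀ g ∈ H, f g = ∑ p, c p * W.y p g := by
  classical
  haveI := Fact.mk Nat.prime_two
  obtain ⟨g₀, hg₀, hg₀N⟩ := W.exists_ne
  have hx0 : W.ξ g₀ ≠ 0 := fun e => hg₀N ((W.zero_iff g₀ hg₀).1 e)
  -- interpolate on the orbit of `g₀`
  let T : (Fin W.l → K) →ₗ[K] (Fin W.l → K) :=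
    { toFun := fun c t => ∑ p, c p * W.y p ((φ ^ (t : ℕ)) g₀)
      map_add' := fun c d => by
        funext t; simp only [Pi.add_apply, add_mul, sum_add_distrib]
      map_smul' := fun k c => by
        funext t; simp only [Pi.smul_apply, smul_eq_mul, mul_sum, RingHom.id_apply, mul_assoc] }
  have hT : Function.Injective T := by
    rw [← LinearMap.ker_eq_bot, LinearMap.ker_eq_bot']
    intro c hc
    have h1 : (fun p => c p * W.y p g₀) = 0 :=
      Matrix.eq_zero_of_forall_pow_sum_mul_pow_eq_zero W.w_inj fun t => by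
        have h2 : ∑ p, c p * W.y p ((φ ^ (t : ℕ)) g₀) = 0 := congrFun hc t
        simp only [W.y_act_pow _ _ hg₀] at h2
        rw [← h2]
        exact sum_congr rfl fun p _ => by ring
    funext p
    exact (mul_eq_zero.1 (congrFun h1 p)).resolve_right fun e => hg₀N ((W.y_eq_zero p hg₀).1 e)
  obtain ⟨c, hc⟩ := LinearMap.injective_iff_surjective.1 hT fun t => f ((φ ^ (t : ℕ)) g₀)
  refine ⟨c, ?_⟩
  -- where the difference vanishes
  let D : G → K := fun g => f g + ∑ p, c p * W.y p g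
  have hDmul : ∀ a ∈ H, ∀ b ∈ H, D (a * b) = D a + D b := fun a ha b hb => by
    show f (a * b) + _ = _
    simp only [hf a ha b hb, W.y_mul _ ha hb, mul_add, sum_add_distrib]
    show _ = (f a + _) + (f b + _)
    ring
  have hDorb : ∀ t : Fin W.l, D ((φ ^ (t : ℕ)) g₀) = 0 := fun t => by
    show f _ + _ = 0
    rw [show ∑ p, c p * W.y p ((φ ^ (t : ℕ)) g₀) = f ((φ ^ (t : ℕ)) g₀) from congrFun hc t]
    exact CharTwo.add_self_eq_zero _
  have hDN : ∀ a ∈ H, a ∈ N → D a = 0 := fun a ha haN => by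
    show f a + _ = 0
    rw [hfN a ha haN, zero_add]
    exact sum_eq_zero fun p _ => by rw [(W.y_eq_zero p ha).2 haN, mul_zero]
  let X : Subgroup G :=
    { carrier := {a | a ∈ H ∧ D a = 0}
      one_mem' := ⟨H.one_mem, hDN 1 H.one_mem N.one_mem⟩
      mul_mem' := fun {a b} ha hb => ⟨H.mul_mem ha.1 hb.1, by
        rw [hDmul a ha.1 b hb.1, ha.2, hb.2, add_zero]⟩
      inv_mem' := fun {a} ha => ⟨H.inv_mem ha.1, by
        have e := hDmul _ (H.inv_mem ha.1) a ha.1
        rw [inv_mul_cancel, hDN 1 H.one_mem N.one_mem, ha.2, add_zero] at e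
        exact e.symm⟩ }
  intro g hg
  exact CharTwo.add_eq_zero.1 (W.mem_of_orbit X (fun a ha haN => ⟨ha, hDN a ha haN⟩) hg₀ hg₀N
    (fun t ht => ⟨W.orb_mem t hg₀, hDorb ⟨t, ht⟩⟩) g hg).2

/-- Coefficients of an equivariant combination live on the right eigenvalue. -/
theorem eqv {f : G → K} {c : Fin W.l → K} (hc : ∀ g ∈ H, f g = ∑ p, c p * W.y p g) {μ : K}
    (hμ : ∀ g ∈ H, f (φ g) = μ * f g) (p : Fin W.l) (hp : c p ≠ 0) : W.w p = μ := by
  have h : (fun p => c p * W.w p) = fun p => μ * c p := W.coeff_unique fun g hg => by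
    have h1 := hc _ (W.inv g hg)
    rw [hμ g hg, hc g hg, mul_sum] at h1
    simp only [W.y_act _ hg] at h1
    simpa only [mul_assoc] using h1.symm
  have := congrFun h p
  rw [mul_comm μ] at this
  exact mul_left_cancel₀ hp this

variable {H' N' : Subgroup G} (W' : Weights φ H' N')

theorem bil_indep {A : Fin W.l → Fin W'.l → K}
    (h : ∀ a ∈ H, ∀ b ∈ H', ∑ p, ∑ q, A p q * W.y p a * W'.y q b = 0) : A = 0 := by
  funext p q
  have h1 : ∀ b ∈ H', (fun p => ∑ q, A p q * W'.y q b) = 0 := fun b hb => W.indep fun a ha => by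
    rw [← h a ha b hb]
    simp only [sum_mul]
    exact sum_congr rfl fun p _ => sum_congr rfl fun q _ => by ring
  exact congrFun (W'.indep fun b hb => congrFun (h1 b hb) p) q

theorem bil_unique {A B : Fin W.l → Fin W'.l → K}
    (h : ∀ a ∈ H, ∀ b ∈ H', ∑ p, ∑ q, A p q * W.y p a * W'.y q b =
      ∑ p, ∑ q, B p q * W.y p a * W'.y q b) : A = B := by
  refine sub_eq_zero.1 (bil_indep W W' fun a ha b hb => ?_)
  simp only [Pi.sub_apply, sub_mul, sum_sub_distrib, h a ha b hb, sub_self]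

theorem bil_span (β : G → G → K)
    (hl : ∀ a ∈ H, ∀ a' ∈ H, ∀ b ∈ H', β (a * a') b = β a b + β a' b)
    (hr : ∀ a ∈ H, ∀ b ∈ H', ∀ b' ∈ H', β a (b * b') = β a b + β a b')
    (hN : ∀ a ∈ H, a ∈ N → ∀ b ∈ H', β a b = 0) (hN' : ∀ a ∈ H, ∀ b ∈ H', b ∈ N' → β a b = 0) :
    ∃ A : Fin W.l → Fin W'.l → K, ∀ a ∈ H, ∀ b ∈ H',
      β a b = ∑ p, ∑ q, A p q * W.y p a * W'.y q b := by
  classical
  choose c hc using fun a : H => W'.span (β a) (hr a a.2) (hN' a a.2)
  let f : Fin W'.l → G → K := fun q a => if h : a ∈ H then c ⟨a, h⟩ q else 0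
  have hfc : ∀ a ∈ H, ∀ b ∈ H', β a b = ∑ q, f q a * W'.y q b := fun a ha b hb => by
    simp only [f, dif_pos ha]; exact hc ⟨a, ha⟩ b hb
  have hspan : ∀ q, ∃ d : Fin W.l → K, ∀ a ∈ H, f q a = ∑ p, d p * W.y p a := by
    intro q
    refine W.span (f q) (fun a ha a' ha' => ?_) fun a ha haN => ?_
    · refine congrFun (W'.coeff_unique (a := fun q => f q (a * a'))
        (b := fun q => f q a + f q a') fun b hb => ?_) q
      simp only [add_mul, sum_add_distrib, ← hfc a ha b hb, ← hfc a' ha' b hb,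
        ← hfc _ (H.mul_mem ha ha') b hb, hl a ha a' ha' b hb]
    · refine congrFun (W'.indep (a := fun q => f q a) fun b hb => ?_) q
      rw [← hfc a ha b hb, hN a ha haN b hb]
  choose d hd using hspan
  refine ⟨fun p q => d q p, fun a ha b hb => ?_⟩
  rw [hfc a ha b hb, sum_comm]
  exact sum_congr rfl fun q _ => by rw [hd q a ha, sum_mul]

theorem bil_eqv {β : G → G → K} {A : Fin W.l → Fin W'.l → K}
    (hA : ∀ a ∈ H, ∀ b ∈ H', β a b = ∑ p, ∑ q, A p q * W.y p a * W'.y q b) {μ : K}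
    (hμ : ∀ a ∈ H, ∀ b ∈ H', β (φ a) (φ b) = μ * β a b) (p : Fin W.l) (q : Fin W'.l)
    (hp : A p q ≠ 0) : W.w p * W'.w q = μ := by
  have h : (fun p q => A p q * (W.w p * W'.w q)) = fun p q => μ * A p q :=
    bil_unique W W' fun a ha b hb => by
      have h1 := hA _ (W.inv a ha) _ (W'.inv b hb)
      rw [hμ a ha b hb, hA a ha b hb] at h1
      simp only [mul_sum, W.y_act _ ha, W'.y_act _ hb] at h1
      have e : ∀ p q, μ * A p q * W.y p a * W'.y q b = μ * (A p q * W.y p a * W'.y q b) :=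
        fun p q => by ring
      simp only [e, h1]
      exact sum_congr rfl fun p _ => sum_congr rfl fun q _ => by ring
  have := congrFun (congrFun h p) q
  rw [mul_comm μ] at this
  exact mul_left_cancel₀ hp this

theorem sum_quad (A : Fin W.l → Fin W.l → K)
    (hA : ∀ p q, p ≠ q → A p q + A q p = 0) {g : G} (hg : g ∈ H) :
    ∑ p, ∑ q, A p q * W.y p g * W.y q g = ∑ p, A p p * W.y (p + 1) g := by
  classical
  have h0 : ∑ x ∈ (univ : Finset (Fin W.l × Fin W.l)) with x.1 ≠ x.2,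
      A x.1 x.2 * W.y x.1 g * W.y x.2 g = 0 := by
    refine Finset.sum_involution (fun x _ => (x.2, x.1)) (fun x hx => ?_)
      (fun x hx _ e => (mem_filter.1 hx).2 (congrArg Prod.fst e).symm) (fun x hx => ?_)
      (fun x _ => rfl)
    · linear_combination (W.y x.1 g * W.y x.2 g) * hA x.1 x.2 (mem_filter.1 hx).2
    · exact mem_filter.2 ⟨mem_univ _, Ne.symm (mem_filter.1 hx).2⟩
  rw [← Fintype.sum_prod_type' (fun p q => A p q * W.y p g * W.y q g),
    ← sum_filter_add_sum_filter_not univ (fun x : Fin W.l × Fin W.l => x.1 = x.2), h0, add_zero]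
  refine sum_nbij' (fun x => x.1) (fun p => (p, p)) (fun _ _ => mem_univ _)
    (fun p _ => mem_filter.2 ⟨mem_univ _, rfl⟩)
    (fun x hx => Prod.ext rfl (mem_filter.1 hx).2) (fun _ _ => rfl) (fun x hx => ?_)
  rw [← (mem_filter.1 hx).2, W.y_succ _ hg, sq, mul_assoc]

/-- A quadratic expression that is a combination of coordinates. -/
theorem diag {A : Fin W.l → Fin W.l → K} {a : Fin W.l → K}
    (h : ∀ g ∈ H, ∑ p, ∑ q, A p q * W.y p g * W.y q g = ∑ p, a p * W.y p g) :
    (∀ p q, A p q + A q p = 0) ∧ ∀ p, a (p + 1) = A p p := by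
  have h1 : (fun p q => A p q + A q p) = 0 := bil_indep W W fun g hg g' hg' => by
    have e := h _ (H.mul_mem hg hg')
    simp only [W.y_mul _ hg hg', mul_add, add_mul, sum_add_distrib, h g hg, h g' hg'] at e
    have e2 : ∑ p, ∑ q, A q p * W.y p g * W.y q g' = ∑ p, ∑ q, A p q * W.y p g' * W.y q g := by
      rw [sum_comm]
      exact sum_congr rfl fun p _ => sum_congr rfl fun q _ => by ring
    simp only [add_mul, sum_add_distrib, e2]
    linear_combination e
  have hs : ∀ p q, A p q + A q p = 0 := fun p q => congrFun (congrFun h1 p) q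
  refine ⟨hs, ?_⟩
  have h2 : (fun p => A (p - 1) (p - 1)) = a := W.coeff_unique fun g hg => by
    rw [← h g hg, W.sum_quad A (fun p q _ => hs p q) hg]
    exact (Fintype.sum_equiv (Equiv.addRight 1) _ _ fun p => by simp).symm
  exact fun p => by simpa using (congrFun h2 (p + 1)).symm

/-- Normal form of an equivariant quadratic function with known polar. -/
theorem quad {Q : G → K} {μ : K} {C : Fin W.l → Fin W.l → K}
    (hQ : ∀ a ∈ H, ∀ b ∈ H, Q (a * b) = Q a + Q b + ∑ p, ∑ q, C p q * W.y p a * W.y q b)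
    (hC : ∀ p, C p p = 0) (hC' : ∀ p q, C p q + C q p = 0)
    (hCμ : ∀ p q, C p q ≠ 0 → W.w p * W.w q = μ)
    (hQN : ∀ a ∈ H, a ∈ N → Q a = 0) (hμ : ∀ a ∈ H, Q (φ a) = μ * Q a) :
    ∃ a : Fin W.l → K, (∀ p, a p ≠ 0 → W.w p = μ) ∧ ∀ g ∈ H,
      Q g = ∑ p, ∑ q, (if p < q then C p q else 0) * W.y p g * W.y q g + ∑ p, a p * W.y p g := by
  classical
  set U : Fin W.l → Fin W.l → K := fun p q => if p < q then C p q else 0 with hU
  let R : G → K := fun g => Q g + ∑ p, ∑ q, U p q * W.y p g * W.y q g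
  have hCU : ∀ p q, C p q = U p q + U q p := by
    intro p q
    rcases lt_trichotomy p q with h | rfl | h
    · simp [U, h, not_lt_of_gt h]
    · simp [U, hC]
    · simp only [U, if_pos h, if_neg (not_lt_of_gt h), zero_add]
      exact CharTwo.add_eq_zero.1 (hC' p q)
  have hR : ∀ a ∈ H, ∀ b ∈ H, R (a * b) = R a + R b := by
    intro a ha b hb
    show Q (a * b) + _ = (Q a + _) + (Q b + _)
    simp only [hQ a ha b hb, W.y_mul _ ha hb, hCU, mul_add, add_mul, sum_add_distrib]
    have e2 : ∑ p, ∑ q, U q p * W.y p a * W.y q b = ∑ p, ∑ q, U p q * W.y p b * W.y q a := by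
      rw [sum_comm]
      exact sum_congr rfl fun p _ => sum_congr rfl fun q _ => by ring
    rw [e2]
    have h2 : (2 : K) = 0 := CharTwo.two_eq_zero
    linear_combination (∑ p, ∑ q, U p q * W.y p a * W.y q b +
      ∑ p, ∑ q, U p q * W.y p b * W.y q a) * h2
  obtain ⟨a, ha⟩ := W.span R hR fun g hg hgN => by
    show Q g + _ = 0
    rw [hQN g hg hgN, zero_add]
    refine sum_eq_zero fun p _ => sum_eq_zero fun q _ => ?_
    rw [(W.y_eq_zero q hg).2 hgN, mul_zero]
  refine ⟨a, W.eqv ha fun g hg => ?_, fun g hg => ?_⟩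
  · show Q (φ g) + _ = μ * (Q g + _)
    rw [hμ g hg, mul_add, mul_sum]
    congr 1
    refine sum_congr rfl fun p _ => ?_
    rw [mul_sum]
    refine sum_congr rfl fun q _ => ?_
    rw [W.y_act _ hg, W.y_act _ hg]
    by_cases hpq : C p q = 0
    · simp [U, hpq]
    · rw [← hCμ p q hpq]; ring
  · rw [← ha g hg]
    show Q g = _ + (Q g + _)
    rw [← add_assoc, add_comm _ (Q g), add_assoc, CharTwo.add_self_eq_zero, add_zero]

end Weights

end CfsgLib.PGroup.SuzukiExp
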