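import Mathlib
import Cfsg.Agent.Lib.PGroup.InvariantComplement
import Cfsg.Agent.Lib.PGroup.Suzuki.Weights

/-!
Invariant subgroups of a group with an automorphism: sections of exponent two, eigencoordinates
on irreducible sections, invariant complements, and the standing hypotheses on the involutions.
-/

set_option autoImplicit false
set_option linter.style.haveILetI false

namespace CfsgLib.PGroup.SuzukiExp

open Subgroup
open scoped commutatorElement

variable {G : Type*} [Group G]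

/-- Invariance of a subgroup under an automorphism. -/
def Inv (φ : MulAut G) (H : Subgroup G) : Prop := ∀ a ∈ H, φ a ∈ H

/-- All squares of elements of `H` lie in `N`. -/
def SqIn (H N : Subgroup G) : Prop := ∀ a ∈ H, a ^ 2 ∈ N

theorem comm_identity (g m : G) : ⁅g, m⁆ = (g * m) ^ 2 * (m⁻¹ * g⁻¹ * m) ^ 2 * (m⁻¹) ^ 2 := by
  simp only [sq, commutatorElement_def]; group

theorem mul_sq (g h : G) : (g * h) ^ 2 = g ^ 2 * ⁅g⁻¹, h⁆ * h ^ 2 := by
  simp only [sq, commutatorElement_def]; group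

theorem comm_sq_right (h g : G) : ⁅h, g ^ 2⁆ = ⁅h, g⁆ * (g * ⁅h, g⁆ * g⁻¹) := by
  simp only [sq, commutatorElement_def]; group

theorem comm_mem_of_sq {H N : Subgroup G} (hsq : SqIn H N) {a b : G} (ha : a ∈ H) (hb : b ∈ H) :
    ⁅a, b⁆ ∈ N := by
  rw [comm_identity]
  exact N.mul_mem (N.mul_mem (hsq _ (H.mul_mem ha hb))
    (hsq _ (H.mul_mem (H.mul_mem (H.inv_mem hb) (H.inv_mem ha)) hb))) (hsq _ (H.inv_mem hb))

theorem conj_mem_of_sq {H N M : Subgroup G} (hsq : SqIn H N) (hNM : N ≤ M) (hMH : M ≤ H) {g m : G}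
    (hg : g ∈ H) (hm : m ∈ M) : g * m * g⁻¹ ∈ M := by
  have h : g * m * g⁻¹ = ⁅g, m⁆ * m := by rw [commutatorElement_def]; group
  rw [h]
  exact M.mul_mem (hNM (comm_mem_of_sq hsq hg (hMH hm))) hm

theorem exists_mul_of_mem_sup {X Y : Subgroup G}
    (h : ∀ x ∈ X, ∀ y ∈ Y, x * y * x⁻¹ ∈ Y) {g : G} (hg : g ∈ X ⊔ Y) :
    ∃ x ∈ X, ∃ y ∈ Y, g = x * y := by
  let Z : Subgroup G :=
    { carrier := {g | ∃ x ∈ X, ∃ y ∈ Y, g = x * y}
      one_mem' := ⟨1, X.one_mem, 1, Y.one_mem, (one_mul 1).symm⟩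
      mul_mem' := by
        rintro _ _ ⟨x, hx, y, hy, rfl⟩ ⟨x', hx', y', hy', rfl⟩
        refine ⟨x * x', X.mul_mem hx hx', x'⁻¹ * y * x' * y', Y.mul_mem ?_ hy', by group⟩
        simpa using h _ (X.inv_mem hx') y hy
      inv_mem' := by
        rintro _ ⟨x, hx, y, hy, rfl⟩
        exact ⟨x⁻¹, X.inv_mem hx, x * y⁻¹ * x⁻¹, h x hx _ (Y.inv_mem hy), by group⟩ }
  have hle : X ⊔ Y ≤ Z := sup_le (fun x hx => ⟨x, hx, 1, Y.one_mem, (mul_one x).symm⟩)
    fun y hy => ⟨1, X.one_mem, y, hy, (one_mul y).symm⟩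
  exact hle hg

theorem exists_maximal [Finite G] (P : Subgroup G → Prop) {H₀ : Subgroup G} (h : P H₀) :
    ∃ M, P M ∧ H₀ ≤ M ∧ ∀ X, P X → M ≤ X → X = M := by
  obtain ⟨M, ⟨hM, hle⟩, hmax⟩ := WellFounded.has_min (wellFounded_gt (α := Subgroup G))
    {X | P X ∧ H₀ ≤ X} ⟨H₀, h, le_rfl⟩
  exact ⟨M, hM, hle, fun X hX hMX => (eq_of_le_of_not_lt hMX fun hlt =>
    hmax X ⟨hX, hle.trans hMX⟩ hlt).symm⟩

variable {φ : MulAut G}

theorem Inv.apply_pow {H : Subgroup G} (h : Inv φ H) (t : ℕ) {a : G} (ha : a ∈ H) :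
    (φ ^ t) a ∈ H := by
  induction t with
  | zero => exact ha
  | succ t ih => rw [pow_succ']; exact h _ ih

theorem Inv.symm_mem [Finite G] {H : Subgroup G} (h : Inv φ H) {a : G} (ha : a ∈ H) :
    φ.symm a ∈ H := by
  haveI : Finite (MulAut G) := Finite.of_injective _ DFunLike.coe_injective
  obtain ⟨t, ht⟩ : φ⁻¹ ∈ Submonoid.powers φ :=
    (isOfFinOrder_of_finite φ).mem_powers_iff_mem_zpowers.2 (inv_mem (mem_zpowers φ))
  show (φ⁻¹) a ∈ H
  rw [← ht]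
  exact h.apply_pow t ha

theorem Inv.inf {H H' : Subgroup G} (h : Inv φ H) (h' : Inv φ H') : Inv φ (H ⊓ H') :=
  fun a ha => ⟨h a ha.1, h' a ha.2⟩

theorem Inv.sup {H H' : Subgroup G} (h : Inv φ H) (h' : Inv φ H') : Inv φ (H ⊔ H') := by
  intro a ha
  have e : H ⊔ H' ≤ (H ⊔ H').comap φ.toMonoidHom :=
    sup_le (fun x hx => mem_comap.2 (mem_sup_left (h x hx)))
      fun x hx => mem_comap.2 (mem_sup_right (h' x hx))
  exact e ha

theorem inv_closure_sq (H : Subgroup G) (h : Inv φ H) :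
    Inv φ (closure ((fun x : G => x ^ 2) '' (H : Set G))) := by
  intro a ha
  have e : closure ((fun x : G => x ^ 2) '' (H : Set G)) ≤
      (closure ((fun x : G => x ^ 2) '' (H : Set G))).comap φ.toMonoidHom := by
    rw [closure_le]
    rintro _ ⟨x, hx, rfl⟩
    exact subset_closure ⟨φ x, h x hx, (map_pow φ x 2).symm⟩
  exact e ha

/-- Eigencoordinates on a minimal invariant section of exponent two. -/
theorem exists_weights [Finite G] {H N : Subgroup G} (hHi : Inv φ H) (hNi : Inv φ N) (hNH : N ≤ H)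
    (hsq : SqIn H N) (hne : N ≠ H)
    (hirr : ∀ X, Inv φ X → N ≤ X → X ≤ H → X = N ∨ X = H) :
    Nonempty (Weights φ H N) := by
  classical
  haveI := Fact.mk Nat.prime_two
  let S : Submodule K (G → K) :=
    { carrier := {f | (∀ a ∈ H, ∀ b ∈ H, f (a * b) = f a + f b) ∧ (∀ a ∈ N, f a = 0) ∧
        ∀ a, a ∉ H → f a = 0}
      add_mem' := by
        rintro f g ⟨hf1, hf2, hf3⟩ ⟨hg1, hg2, hg3⟩
        refine ⟨fun a ha b hb => ?_, fun a ha => ?_, fun a ha => ?_⟩ <;> simp only [Pi.add_apply]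
        · rw [hf1 a ha b hb, hg1 a ha b hb]; ring
        · rw [hf2 a ha, hg2 a ha, add_zero]
        · rw [hf3 a ha, hg3 a ha, add_zero]
      zero_mem' := ⟨fun a _ b _ => (add_zero 0).symm, fun a _ => rfl, fun a _ => rfl⟩
      smul_mem' := by
        rintro k f ⟨hf1, hf2, hf3⟩
        refine ⟨fun a ha b hb => ?_, fun a ha => ?_, fun a ha => ?_⟩ <;>
          simp only [Pi.smul_apply, smul_eq_mul]
        · rw [hf1 a ha b hb, mul_add]
        · rw [hf2 a ha, mul_zero]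
        · rw [hf3 a ha, mul_zero] }
  -- a nonzero functional
  obtain ⟨X, ⟨hXH, hXne⟩, hNX, hXmax⟩ :=
    exists_maximal (fun X => X ≤ H ∧ X ≠ H) (H₀ := N) ⟨hNH, hne⟩
  obtain ⟨x, hxH, hxX⟩ := SetLike.exists_of_lt (lt_of_le_of_ne hXH hXne)
  have hsplit : ∀ a ∈ H, a ∉ X → a * x⁻¹ ∈ X := by
    intro a ha haX
    by_contra hax
    have hconj : ∀ z ∈ zpowers x, ∀ y ∈ X, z * y * z⁻¹ ∈ X := fun z hz y hy =>
      conj_mem_of_sq hsq hNX hXH ((zpowers_le.2 hxH) hz) hy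
    have hlt : X < zpowers x ⊔ X := right_lt_sup.2 fun h => hxX (h (mem_zpowers x))
    have htop : zpowers x ⊔ X = H := by
      by_contra hh
      exact hlt.ne (hXmax _ ⟨sup_le (zpowers_le.2 hxH) hXH, hh⟩ le_sup_right).symm
    obtain ⟨z, ⟨i, rfl⟩, y, hy, rfl⟩ :=
      exists_mul_of_mem_sup hconj (show a ∈ zpowers x ⊔ X from htop.symm ▸ ha)
    have hx2 : x ^ 2 ∈ X := hNX (hsq x hxH)
    rcases Int.even_or_odd' i with ⟨j, rfl | rfl⟩
    · refine haX (X.mul_mem ?_ hy)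
      show x ^ (2 * j) ∈ X
      rw [zpow_mul, zpow_ofNat]
      exact X.zpow_mem hx2 j
    · refine hax ?_
      have e : x ^ (2 * j + 1) * y * x⁻¹ = x ^ (2 * j) * (x * y * x⁻¹) := by
        rw [zpow_add, zpow_one]; group
      show x ^ (2 * j + 1) * y * x⁻¹ ∈ X
      rw [e, zpow_mul, zpow_ofNat]
      exact X.mul_mem (X.zpow_mem hx2 j) (hconj x (mem_zpowers x) y hy)
  let f₀ : G → K := fun a => if a ∈ H ∧ a ∉ X then 1 else 0
  have hf₀ : f₀ ∈ S := by
    refine ⟨fun a ha b hb => ?_, fun a ha => if_neg fun h => h.2 (hNX ha),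
      fun a ha => if_neg fun h => ha h.1⟩
    by_cases haX : a ∈ X <;> by_cases hbX : b ∈ X
    · simp [f₀, ha, hb, haX, hbX, H.mul_mem ha hb, X.mul_mem haX hbX]
    · simp [f₀, ha, hb, haX, hbX, H.mul_mem ha hb, (X.mul_mem_cancel_left haX)]
    · simp [f₀, ha, hb, haX, hbX, H.mul_mem ha hb, (X.mul_mem_cancel_right hbX)]
    · have h : a * b ∈ X := by
        have e : a * b = (a * x⁻¹) * (x * (b * x⁻¹) * x⁻¹) * x ^ 2 := by group
        rw [e]
        exact X.mul_mem (X.mul_mem (hsplit a ha haX)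
          (conj_mem_of_sq hsq hNX hXH hxH (hsplit b hb hbX))) (hNX (hsq x hxH))
      simp [f₀, ha, hb, haX, hbX, H.mul_mem ha hb, h, CharTwo.add_self_eq_zero]
  haveI : Nontrivial S := ⟨⟨⟨f₀, hf₀⟩, 0, fun e => by
    have := congrFun (congrArg Subtype.val e) x
    simp [f₀, hxH, hxX] at this⟩⟩
  let T : S →ₗ[K] S :=
    { toFun := fun f => ⟨fun a => if a ∈ H then f.1 (φ a) else 0,
        fun a ha b hb => by
          simp only [ha, hb, H.mul_mem ha hb, if_true, _root_.map_mul]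
          exact f.2.1 _ (hHi a ha) _ (hHi b hb),
        fun a ha => by simp only [hNH ha, if_true]; exact f.2.2.1 _ (hNi a ha),
        fun a ha => by simp only [ha, if_false]⟩
      map_add' := fun f g => Subtype.ext (funext fun a => by
        by_cases ha : a ∈ H <;> simp [ha])
      map_smul' := fun k f => Subtype.ext (funext fun a => by
        by_cases ha : a ∈ H <;> simp [ha]) }
  obtain ⟨η, hη⟩ := Module.End.exists_eigenvalue T
  obtain ⟨f, hf⟩ := hη.exists_hasEigenvector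
  have hfact : ∀ a ∈ H, f.1 (φ a) = η * f.1 a := fun a ha => by
    have := congrFun (congrArg Subtype.val hf.apply_eq_smul) a
    simpa [T, ha] using this
  obtain ⟨g₀, hg₀, hg₀0⟩ : ∃ g ∈ H, f.1 g ≠ 0 := by
    by_contra h
    push Not at h
    refine hf.2 (Subtype.ext (funext fun a => ?_))
    by_cases ha : a ∈ H
    · exact h a ha
    · exact f.2.2.2 a ha
  let ξ : G → K := fun a => (f.1 g₀)⁻¹ * f.1 a
  have hmul : ∀ a ∈ H, ∀ b ∈ H, ξ (a * b) = ξ a + ξ b := fun a ha b hb => by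
    show _ * f.1 (a * b) = _
    rw [f.2.1 a ha b hb, mul_add]
  have hact : ∀ a ∈ H, ξ (φ a) = η * ξ a := fun a ha => by
    show _ * f.1 (φ a) = η * ((f.1 g₀)⁻¹ * f.1 a)
    rw [hfact a ha]; ring
  have hN0 : ∀ a ∈ N, ξ a = 0 := fun a ha => by
    show _ * f.1 a = 0
    rw [f.2.2.1 a ha, mul_zero]
  have hg1 : ξ g₀ = 1 := inv_mul_cancel₀ hg₀0
  have hker : ∀ a ∈ H, ξ a = 0 ↔ a ∈ N := by
    let Z : Subgroup G :=
      { carrier := {a | a ∈ H ∧ ξ a = 0}
        one_mem' := ⟨H.one_mem, hN0 1 N.one_mem⟩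
        mul_mem' := fun {a b} ha hb => ⟨H.mul_mem ha.1 hb.1, by
          rw [hmul a ha.1 b hb.1, ha.2, hb.2, add_zero]⟩
        inv_mem' := fun {a} ha => ⟨H.inv_mem ha.1, by
          have e := hmul _ (H.inv_mem ha.1) a ha.1
          rw [inv_mul_cancel, hN0 1 N.one_mem, ha.2, add_zero] at e
          exact e.symm⟩ }
    rcases hirr Z (fun a ha => ⟨hHi a ha.1, by rw [hact a ha.1, ha.2, mul_zero]⟩)
      (fun a ha => ⟨hNH ha, hN0 a ha⟩) (fun a ha => ha.1) with hZ | hZ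
    · exact fun a ha => ⟨fun h => hZ ▸ (⟨ha, h⟩ : a ∈ Z), hN0 a⟩
    · exact absurd (hg1.symm.trans ((hZ.symm ▸ hg₀ : g₀ ∈ Z)).2) one_ne_zero
  have hη0 : η ≠ 0 := by
    rintro rfl
    have h0 : φ g₀ ∈ N := (hker _ (hHi g₀ hg₀)).1 (by rw [hact g₀ hg₀, zero_mul])
    have := hNi.symm_mem h0
    rw [MulEquiv.symm_apply_apply] at this
    exact one_ne_zero (hg1.symm.trans (hN0 _ this))
  have horb : ∀ t : ℕ, ξ ((φ ^ t) g₀) = η ^ t := by
    intro t
    induction t with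
    | zero => rw [pow_zero, pow_zero]; exact hg1
    | succ t ih =>
      rw [pow_succ' φ, MulAut.mul_apply, hact _ (hHi.apply_pow t hg₀), ih, pow_succ']
  have hex : ∃ k, 0 < k ∧ η ^ 2 ^ k = η := by
    obtain ⟨i, j, hij, hne'⟩ : ∃ i j : ℕ, η ^ 2 ^ i = η ^ 2 ^ j ∧ i < j := by
      obtain ⟨i, j, hij, h⟩ := Finite.exists_ne_map_eq_of_infinite
        (fun i : ℕ => (φ ^ (2 ^ i)) g₀)
      have h' := congrArg ξ h
      simp only [horb] at h'
      rcases lt_or_gt_of_ne hij with h1 | h1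
      · exact ⟨i, j, h', h1⟩
      · exact ⟨j, i, h'.symm, h1⟩
    refine ⟨j - i, by omega, (iterateFrobenius_inj K 2 i).eq_iff.1 ?_⟩
    simp only [iterateFrobenius_def]
    rw [← pow_mul, ← pow_add, show j - i + i = j by omega, hij]
  obtain ⟨hlpos, hlper⟩ := Nat.find_spec hex
  set l := Nat.find hex
  have hinj : ∀ i < l, ∀ j < l, η ^ 2 ^ i = η ^ 2 ^ j → i = j := by
    suffices h : ∀ i j, i < j → j < l → η ^ 2 ^ i ≠ η ^ 2 ^ j by
      intro i hi j hj e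
      rcases lt_trichotomy i j with h1 | h1 | h1
      · exact absurd e (h i j h1 hj)
      · exact h1
      · exact absurd e.symm (h j i h1 hi)
    intro i j hij hj e
    refine Nat.find_min hex (show j - i < l by omega) ⟨by omega,
      (iterateFrobenius_inj K 2 i).eq_iff.1 ?_⟩
    simp only [iterateFrobenius_def]
    rw [← pow_mul, ← pow_add, show j - i + i = j by omega, e]
  have hval : ∀ a ∈ H, ξ a ^ 2 ^ l = ξ a := by
    let Z : Subgroup G :=
      { carrier := {a | a ∈ H ∧ ξ a ^ 2 ^ l = ξ a}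
        one_mem' := ⟨H.one_mem, by rw [hN0 1 N.one_mem, zero_pow (by positivity)]⟩
        mul_mem' := fun {a b} ha hb => ⟨H.mul_mem ha.1 hb.1, by
          rw [hmul a ha.1 b hb.1, add_pow_char_pow, ha.2, hb.2]⟩
        inv_mem' := fun {a} ha => ⟨H.inv_mem ha.1, by
          have e := hmul _ (H.inv_mem ha.1) a ha.1
          rw [inv_mul_cancel, hN0 1 N.one_mem] at e
          rw [CharTwo.add_eq_zero.1 e.symm]; exact ha.2⟩ }
    rcases hirr Z (fun a ha => ⟨hHi a ha.1, by rw [hact a ha.1, mul_pow, hlper, ha.2]⟩)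
      (fun a ha => ⟨hNH ha, by rw [hN0 a ha, zero_pow (by positivity)]⟩)
      (fun a ha => ha.1) with hZ | hZ
    · have h1 : g₀ ∈ Z := ⟨hg₀, by rw [hg1, one_pow]⟩
      exact absurd (hg1.symm.trans (hN0 g₀ (hZ ▸ h1))) one_ne_zero
    · exact fun a ha => (hZ.symm ▸ ha : a ∈ Z).2
  exact ⟨{
    l := l, pos := hlpos, η := η, ξ := ξ, inv := hHi, map_mul := hmul, zero_iff := hker,
    act := hact, val := hval, η_per := hlper, η_inj := hinj, η_ne := hη0,
    exists_ne := ⟨g₀, hg₀, fun h => one_ne_zero (hg1.symm.trans (hN0 g₀ h))⟩ }⟩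

theorem exists_complement [Finite G] (hodd : Odd (orderOf φ)) {H M N : Subgroup G}
    (hHi : Inv φ H) (hMi : Inv φ M) (hNi : Inv φ N) (hNM : N ≤ M) (hMH : M ≤ H)
    (hsq : SqIn H N) : ∃ P, Inv φ P ∧ N ≤ P ∧ P ≤ H ∧ M ⊓ P = N ∧ M ⊔ P = H := by
  classical
  haveI := Fact.mk Nat.prime_two
  let Hs := ↥H
  let Ns : Subgroup H := N.subgroupOf H
  haveI hNn : Ns.Normal := ⟨fun a ha g => mem_subgroupOf.2 (by
    simpa using conj_mem_of_sq hsq le_rfl (hNM.trans hMH) g.2 (mem_subgroupOf.1 ha))⟩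
  let f : H →* H :=
    { toFun := fun v => ⟨φ v, hHi v v.2⟩
      map_one' := Subtype.ext (map_one φ)
      map_mul' := fun a b => Subtype.ext (map_mul φ _ _) }
  let ψ : MulAut H := MulEquiv.ofBijective f ⟨fun a b e =>
    Subtype.ext (φ.injective (congrArg Subtype.val e)), fun a =>
    ⟨⟨φ.symm a, hHi.symm_mem a.2⟩, Subtype.ext (φ.apply_symm_apply a)⟩⟩
  have hψN : Ns.map (ψ : H ≃* H).toMonoidHom = Ns := by
    refine le_antisymm ?_ fun a ha => ?_
    · rintro _ ⟨a, ha, rfl⟩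
      exact mem_subgroupOf.2 (hNi _ (mem_subgroupOf.1 ha))
    · exact ⟨⟨φ.symm a, hHi.symm_mem a.2⟩, mem_subgroupOf.2 (hNi.symm_mem (mem_subgroupOf.1 ha)),
        Subtype.ext (φ.apply_symm_apply a)⟩
  let ψq : MulAut (H ⧸ Ns) := QuotientGroup.congr Ns Ns ψ hψN
  have hψq : ∀ (t : ℕ) (a : H), (ψq ^ t) (a : H ⧸ Ns) = ((ψ ^ t) a : H) := by
    intro t
    induction t with
    | zero => intro a; rfl
    | succ t ih =>
      intro a
      rw [pow_succ', MulAut.mul_apply, ih, pow_succ', MulAut.mul_apply]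
      rfl
  have hψt : ∀ (t : ℕ) (a : H), ((ψ ^ t) a : G) = (φ ^ t) a := by
    intro t
    induction t with
    | zero => intro a; rfl
    | succ t ih =>
      intro a
      rw [pow_succ', MulAut.mul_apply, pow_succ', MulAut.mul_apply]
      show φ _ = _
      rw [ih]
  have hord : ψq ^ orderOf φ = 1 := MulEquiv.ext fun x => by
    obtain ⟨a, rfl⟩ := QuotientGroup.mk'_surjective Ns x
    show (ψq ^ orderOf φ) (a : H ⧸ Ns) = (a : H ⧸ Ns)
    rw [hψq]
    congr 1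
    exact Subtype.ext (by rw [hψt, pow_orderOf_eq_one]; rfl)
  have hsq' : ∀ x : H ⧸ Ns, x * x = 1 := by
    intro x
    obtain ⟨a, rfl⟩ := QuotientGroup.mk'_surjective Ns x
    show ((a * a : H) : H ⧸ Ns) = 1
    rw [QuotientGroup.eq_one_iff, mem_subgroupOf, ← sq]
    exact hsq a a.2
  letI : CommGroup (H ⧸ Ns) := { (inferInstance : Group (H ⧸ Ns)) with
    mul_comm := fun a b => by
      have h : ∀ x : H ⧸ Ns, x⁻¹ = x := fun x => inv_eq_of_mul_eq_one_right (hsq' x)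
      calc a * b = (a * b)⁻¹ := (h _).symm
        _ = b * a := by rw [mul_inv_rev, h, h] }
  let B : Subgroup (H ⧸ Ns) := (M.subgroupOf H).map (QuotientGroup.mk' Ns)
  obtain ⟨C₀, hC₀, hC₀'⟩ := CfsgLib.PGroup.exists_complement_of_free (p := 2) (e := 0)
    (fun a => by simpa [sq] using hsq' a) B (fun b _ hb => ⟨1, B.one_mem, by
      rw [pow_zero, pow_one] at hb; rw [one_pow, hb]⟩)
  have hcop : (Nat.card (zpowers ψq)).Coprime (Monoid.exponent (H ⧸ Ns)) := by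
    rw [Nat.card_zpowers]
    exact Nat.Coprime.of_dvd (orderOf_dvd_of_pow_eq_one hord)
      (Monoid.exponent_dvd_of_forall_pow_eq_one fun x => by rw [sq]; exact hsq' x)
      hodd.coprime_two_right
  have hψqB : ∀ b ∈ B, ψq b ∈ B := by
    rintro _ ⟨a, ha, rfl⟩
    exact ⟨ψ a, mem_subgroupOf.2 (hMi _ (mem_subgroupOf.1 ha)), rfl⟩
  have hXB : ∀ x : zpowers ψq, ∀ b ∈ B, (zpowers ψq).subtype x b ∈ B := by
    intro x b hb
    obtain ⟨t, ht⟩ := (isOfFinOrder_of_finite ψq).mem_powers_iff_mem_zpowers.2 x.2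
    show (x : MulAut (H ⧸ Ns)) b ∈ B
    rw [← ht]
    show (ψq ^ t) b ∈ B
    clear ht
    induction t with
    | zero => exact hb
    | succ u iu => rw [pow_succ', MulAut.mul_apply]; exact hψqB _ iu
  obtain ⟨C, hCi, hC, hC'⟩ := CfsgLib.PGroup.exists_invariant_complement
    (zpowers ψq).subtype hcop B hXB C₀ hC₀ hC₀'
  refine ⟨(C.comap (QuotientGroup.mk' Ns)).map H.subtype, ?_, ?_, map_subtype_le _, ?_, ?_⟩
  · rintro _ ⟨a, ha, rfl⟩
    exact ⟨ψ a, hCi ⟨ψq, mem_zpowers _⟩ _ ha, rfl⟩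
  · intro a ha
    refine ⟨⟨a, hMH (hNM ha)⟩, ?_, rfl⟩
    show QuotientGroup.mk' Ns _ ∈ C
    rw [show QuotientGroup.mk' Ns ⟨a, hMH (hNM ha)⟩ = 1 from
      (QuotientGroup.eq_one_iff _).2 (mem_subgroupOf.2 ha)]
    exact C.one_mem
  · refine le_antisymm ?_ ?_
    · rintro _ ⟨haM, ⟨a, ha, rfl⟩⟩
      have h1 : QuotientGroup.mk' Ns a ∈ B ⊓ C := ⟨⟨a, mem_subgroupOf.2 haM, rfl⟩, ha⟩
      rw [hC, mem_bot] at h1
      exact mem_subgroupOf.1 ((QuotientGroup.eq_one_iff a).1 h1)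
    · intro a ha
      refine ⟨hNM ha, ⟨a, hMH (hNM ha)⟩, ?_, rfl⟩
      show QuotientGroup.mk' Ns _ ∈ C
      rw [show QuotientGroup.mk' Ns ⟨a, hMH (hNM ha)⟩ = 1 from
        (QuotientGroup.eq_one_iff _).2 (mem_subgroupOf.2 ha)]
      exact C.one_mem
  · refine le_antisymm (sup_le hMH (map_subtype_le _)) fun a ha => ?_
    have h1 : QuotientGroup.mk' Ns ⟨a, ha⟩ ∈ B ⊔ C := hC'.symm ▸ mem_top _
    obtain ⟨b, ⟨m, hm, rfl⟩, c, hc, hbc⟩ := mem_sup.1 h1
    obtain ⟨c, rfl⟩ := QuotientGroup.mk'_surjective Ns c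
    rw [← _root_.map_mul] at hbc
    obtain ⟨k, hk, hke⟩ := (QuotientGroup.mk'_eq_mk' (N := Ns)).1 hbc
    have e : a = ((m * (c * k) : H) : G) := by rw [← mul_assoc, hke]
    rw [e, Subgroup.coe_mul]
    refine mul_mem_sup (mem_subgroupOf.1 hm) ⟨c * k, ?_, rfl⟩
    show QuotientGroup.mk' Ns (c * k) ∈ C
    rw [_root_.map_mul, show QuotientGroup.mk' Ns k = 1 from (QuotientGroup.eq_one_iff k).2 hk,
      mul_one]
    exact hc

/-- The standing hypotheses: `V` consists of the involutions and `1`, is central, and `φ` acts on it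
with distinct eigenvalues, no two of which multiply to a third. -/
structure Ctx (φ : MulAut G) where
  pG : IsPGroup 2 G
  odd : Odd (orderOf φ)
  V : Subgroup G
  mem_V : ∀ x, x ∈ V ↔ x ^ 2 = 1
  central : ∀ v ∈ V, ∀ g : G, g * v = v * g
  W : Weights φ V ⊥
  two_le : 2 ≤ W.l
  van : ∀ i j k : Fin W.l, i ≠ j → W.w i * W.w j ≠ W.w k

namespace Ctx

variable (c : Ctx φ)

theorem invV : Inv φ c.V := c.W.inv

theorem mul_self {v : G} (hv : v ∈ c.V) : v * v = 1 := by rw [← sq]; exact (c.mem_V v).1 hv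

theorem inv_eq {v : G} (hv : v ∈ c.V) : v⁻¹ = v := inv_eq_of_mul_eq_one_right (c.mul_self hv)

theorem eq_one_of_y {v : G} (hv : v ∈ c.V) (k : Fin c.W.l) (h : c.W.y k v = 0) : v = 1 :=
  mem_bot.1 ((c.W.y_eq_zero k hv).1 h)

theorem irred {X : Subgroup G} (hX : Inv φ X) {x : G} (hx : x ∈ X) (hxV : x ∈ c.V) (hx1 : x ≠ 1) :
    c.V ≤ X := fun v hv =>
  c.W.mem_of_orbit X (fun a _ ha => by rw [mem_bot.1 ha]; exact X.one_mem) hxV
    (fun h => hx1 (mem_bot.1 h)) (fun t _ => hX.apply_pow t hx) v hv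

theorem V_le [Finite G] {H : Subgroup G} (hH : Inv φ H) {h : G} (hh : h ∈ H) (h1 : h ≠ 1) :
    c.V ≤ H := by
  obtain ⟨k, hk⟩ := IsPGroup.iff_orderOf.1 c.pG h
  obtain ⟨j, rfl⟩ : ∃ j, k = j + 1 := ⟨k - 1, by
    have : k ≠ 0 := fun e => h1 (orderOf_eq_one_iff.1 (by rw [hk, e, pow_zero]))
    omega⟩
  refine c.irred hH (H.pow_mem hh (2 ^ j)) ((c.mem_V _).2 ?_)
    (pow_ne_one_of_lt_orderOf (pow_ne_zero _ two_ne_zero)
      (hk ▸ Nat.pow_lt_pow_right one_lt_two (Nat.lt_succ_self j)))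
  rw [← pow_mul, ← pow_succ, ← hk, pow_orderOf_eq_one]

theorem dvd_of_per {k : Fin c.W.l} {t : ℕ} (h : c.W.w k ^ 2 ^ t = c.W.w k) : c.W.l ∣ t := by
  rw [Weights.w, ← pow_mul, ← pow_add, ← pow_two_pow_mod c.W.η_per ((k : ℕ) + t)] at h
  have e := c.W.η_inj _ (Nat.mod_lt _ c.W.pos) _ k.2 h
  have e2 : ((k : ℕ) + t) % c.W.l = ((k : ℕ) + 0) % c.W.l := by
    rw [e, add_zero, Nat.mod_eq_of_lt k.2]
  exact (Nat.modEq_zero_iff_dvd).1 (Nat.ModEq.add_left_cancel' (k : ℕ) e2)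

open Fin.NatCast in
theorem forall_of_succ {l : ℕ} [NeZero l] {P : Fin l → Prop} {p₀ : Fin l} (h₀ : P p₀)
    (hs : ∀ p, P p → P (p + 1)) (p : Fin l) : P p := by
  have h : ∀ t : ℕ, P (p₀ + (t : Fin l)) := by
    intro t
    induction t with
    | zero => simpa using h₀
    | succ t ih => rw [Nat.cast_succ, ← add_assoc]; exact hs _ ih
  simpa using h (p - p₀ : Fin l).val

variable {H N : Subgroup G} (U : Weights φ H N)

/-- If some eigenvalue of a section is an eigenvalue on the involutions, all of them are. -/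
theorem all_mem {p₀ : Fin U.l} {i₀ : Fin c.W.l} (h : U.w p₀ = c.W.w i₀) (p : Fin U.l) :
    ∃ i, U.w p = c.W.w i :=
  forall_of_succ (P := fun p => ∃ i, U.w p = c.W.w i) ⟨i₀, h⟩
    (fun p ⟨i, hi⟩ => ⟨i + 1, by rw [U.w_succ, c.W.w_succ, hi]⟩) p

/-- Equivariant alternating maps into `V` vanish on a section sharing an eigenvalue with `V`. -/
theorem alt_vanish (hT : ∀ p, ∃ i, U.w p = c.W.w i) (β : G → G → G)
    (hV : ∀ a ∈ H, ∀ b ∈ H, β a b ∈ c.V)
    (hl : ∀ a ∈ H, ∀ a' ∈ H, ∀ b ∈ H, β (a * a') b = β a b * β a' b)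
    (hr : ∀ a ∈ H, ∀ b ∈ H, ∀ b' ∈ H, β a (b * b') = β a b * β a b')
    (hN : ∀ a ∈ H, a ∈ N → ∀ b ∈ H, β a b = 1) (hN' : ∀ a ∈ H, ∀ b ∈ H, b ∈ N → β a b = 1)
    (halt : ∀ a ∈ H, β a a = 1) (heq : ∀ a ∈ H, ∀ b ∈ H, β (φ a) (φ b) = φ (β a b))
    {a b : G} (ha : a ∈ H) (hb : b ∈ H) : β a b = 1 := by
  refine c.eq_one_of_y (hV a ha b hb) 0 ?_
  obtain ⟨A, hA⟩ := U.bil_span U (fun a b => c.W.y 0 (β a b))
    (fun a ha a' ha' b hb => by rw [hl a ha a' ha' b hb, c.W.y_mul 0 (hV _ ha _ hb) (hV _ ha' _ hb)])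
    (fun a ha b hb b' hb' => by rw [hr a ha b hb b' hb', c.W.y_mul 0 (hV _ ha _ hb) (hV _ ha _ hb')])
    (fun a ha haN b hb => by rw [hN a ha haN b hb]; exact c.W.one_y 0)
    (fun a ha b hb hbN => by rw [hN' a ha b hb hbN]; exact c.W.one_y 0)
  have hd := U.diag (a := 0) (A := A) fun g hg => by
    rw [← hA g hg g hg, halt g hg, c.W.one_y]
    simp
  have hA0 : A = 0 := by
    funext p q
    by_cases hpq : p = q
    · subst hpq; exact (hd.2 p).symm
    by_contra hne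
    have h1 := U.bil_eqv U hA (μ := c.W.w 0) (fun a ha b hb => by
      rw [heq a ha b hb, c.W.y_act 0 (hV a ha b hb)]) p q hne
    obtain ⟨i, hi⟩ := hT p
    obtain ⟨j, hj⟩ := hT q
    exact c.van i j 0 (fun e => hpq (U.w_inj (by rw [hi, hj, e]))) (by rw [← hi, ← hj, h1])
  show c.W.y 0 (β a b) = 0
  rw [hA a ha b hb, hA0]
  simp

end Ctx

end CfsgLib.PGroup.SuzukiExp
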