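import Mathlib
import Cfsg.Agent.Lib.Suzuki.TwoGroup
import Cfsg.Agent.Lib.PGroup.Suzuki.Tools

/-!
The action of an overgroup on the elements of order four of an invariant abelian subgroup, read as
a family of maps on the involutions; squaring on sections over the involutions.
-/

set_option autoImplicit false

namespace CfsgLib.PGroup.SuzukiExp

open Subgroup Finset
open scoped commutatorElement

variable {G : Type*} [Group G] {φ : MulAut G}

theorem Weights.dvd_of_pow {H N : Subgroup G} (U : Weights φ H N) {p : Fin U.l} {t : ℕ}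
    (h : U.w p ^ 2 ^ t = U.w p) : U.l ∣ t := by
  rw [Weights.w, ← pow_mul, ← pow_add, ← pow_two_pow_mod U.η_per ((p : ℕ) + t)] at h
  have e := U.η_inj _ (Nat.mod_lt _ U.pos) _ p.2 h
  have e2 : ((p : ℕ) + t) % U.l = ((p : ℕ) + 0) % U.l := by
    rw [e, add_zero, Nat.mod_eq_of_lt p.2]
  exact (Nat.modEq_zero_iff_dvd).1 (Nat.ModEq.add_left_cancel' (p : ℕ) e2)

/-- Restriction of eigencoordinates. -/
def Weights.restrict {H N H' N' : Subgroup G} (U : Weights φ H N) (hle : H' ≤ H) (hi : Inv φ H')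
    (hN : ∀ a ∈ H', a ∈ N ↔ a ∈ N') (hne : ∃ a ∈ H', a ∉ N') : Weights φ H' N' where
  l := U.l
  pos := U.pos
  η := U.η
  ξ := U.ξ
  inv := hi
  map_mul a ha b hb := U.map_mul a (hle ha) b (hle hb)
  zero_iff a ha := (U.zero_iff a (hle ha)).trans (hN a ha)
  act a ha := U.act a (hle ha)
  val a ha := U.val a (hle ha)
  η_per := U.η_per
  η_inj := U.η_inj
  η_ne := U.η_ne
  exists_ne := hne

theorem comm_mul_left (x y z : G) : ⁅x * y, z⁆ = x * ⁅y, z⁆ * x⁻¹ * ⁅x, z⁆ := by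
  simp only [commutatorElement_def]; group

theorem comm_mul_right (x y z : G) : ⁅x, y * z⁆ = ⁅x, y⁆ * (y * ⁅x, z⁆ * y⁻¹) := by
  simp only [commutatorElement_def]; group

theorem map_comm (α : MulAut G) (x y : G) : α ⁅x, y⁆ = ⁅α x, α y⁆ := by
  simp only [commutatorElement_def, _root_.map_mul, _root_.map_inv]

namespace Ctx

variable (c : Ctx φ)

theorem conjV {v : G} (hv : v ∈ c.V) (g : G) : g * v * g⁻¹ = v := by
  rw [c.central v hv g, mul_inv_cancel_right]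

theorem comm_V {v : G} (hv : v ∈ c.V) (g : G) : ⁅g, v⁆ = 1 :=
  commutatorElement_eq_one_iff_mul_comm.2 (c.central v hv g)

theorem comm_V' {v : G} (hv : v ∈ c.V) (g : G) : ⁅v, g⁆ = 1 :=
  commutatorElement_eq_one_iff_mul_comm.2 (c.central v hv g).symm

/-- An abelian invariant subgroup, normalised by `H`, in which involutions have square roots. -/
structure Lift (H M : Subgroup G) : Prop where
  invH : Inv φ H
  invM : Inv φ M
  le : M ≤ H
  hV : c.V ≤ M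
  comm : ∀ a ∈ M, ∀ b ∈ M, a * b = b * a
  conj : ∀ g ∈ H, ∀ m ∈ M, g * m * g⁻¹ ∈ M
  root : ∀ v ∈ c.V, ∃ w ∈ M, w ^ 2 = v

variable {c} {H M : Subgroup G}

open Classical in
/-- The chosen square root. -/
noncomputable def Lift.R (L : c.Lift H M) (v : G) : G :=
  if h : v ∈ c.V then (L.root v h).choose else 1

/-- The action of `g` read on the involutions. -/
noncomputable def Lift.e (L : c.Lift H M) (g v : G) : G := ⁅g, L.R v⁆

theorem Lift.R_mem (L : c.Lift H M) (v : G) : L.R v ∈ M := by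
  unfold Lift.R
  split_ifs with h
  · exact (L.root v h).choose_spec.1
  · exact M.one_mem

theorem Lift.R_sq (L : c.Lift H M) {v : G} (hv : v ∈ c.V) : L.R v ^ 2 = v := by
  rw [Lift.R, dif_pos hv]; exact (L.root v hv).choose_spec.2

theorem Lift.dd_mem (L : c.Lift H M) {g a : G} (hg : g ∈ H) (ha : a ∈ M) : ⁅g, a⁆ ∈ M := by
  rw [commutatorElement_def]; exact M.mul_mem (L.conj g hg a ha) (M.inv_mem ha)

theorem Lift.conjM (L : c.Lift H M) {m a : G} (hm : m ∈ M) (ha : a ∈ M) : m * a * m⁻¹ = a := by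
  rw [L.comm m hm a ha, mul_inv_cancel_right]

theorem Lift.dd_mul (L : c.Lift H M) {g a b : G} (hg : g ∈ H) (ha : a ∈ M) (hb : b ∈ M) :
    ⁅g, a * b⁆ = ⁅g, a⁆ * ⁅g, b⁆ := by
  rw [comm_mul_right, L.conjM ha (L.dd_mem hg hb)]

theorem Lift.dd_pow (L : c.Lift H M) {g a : G} (hg : g ∈ H) (ha : a ∈ M) (n : ℕ) :
    ⁅g, a ^ n⁆ = ⁅g, a⁆ ^ n := by
  induction n with
  | zero => rw [pow_zero, pow_zero, commutatorElement_one_right]
  | succ n ih => rw [pow_succ, pow_succ, L.dd_mul hg (M.pow_mem ha n) ha, ih]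

theorem Lift.e_eq (L : c.Lift H M) {g w : G} (hg : g ∈ H) (hw : w ∈ M) (hw2 : w ^ 2 ∈ c.V) :
    ⁅g, w⁆ = L.e g (w ^ 2) := by
  have hR := L.R_mem (w ^ 2)
  have hu : (L.R (w ^ 2))⁻¹ * w ∈ c.V := by
    rw [c.mem_V, (Commute.mul_pow (L.comm _ (M.inv_mem hR) _ hw) 2), inv_pow, L.R_sq hw2,
      inv_mul_cancel]
  rw [show w = L.R (w ^ 2) * ((L.R (w ^ 2))⁻¹ * w) by group, comm_mul_right, c.comm_V hu]
  simp only [mul_one, mul_inv_cancel, mul_inv_cancel_left]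
  rfl

theorem Lift.e_mem (L : c.Lift H M) {g v : G} (hg : g ∈ H) (hv : v ∈ c.V) : L.e g v ∈ c.V := by
  rw [c.mem_V]
  show ⁅g, L.R v⁆ ^ 2 = 1
  rw [← L.dd_pow hg (L.R_mem v), L.R_sq hv, c.comm_V hv]

theorem Lift.e_mul_right (L : c.Lift H M) {g v v' : G} (hg : g ∈ H) (hv : v ∈ c.V)
    (hv' : v' ∈ c.V) : L.e g (v * v') = L.e g v * L.e g v' := by
  show _ = ⁅g, L.R v⁆ * ⁅g, L.R v'⁆
  rw [← L.dd_mul hg (L.R_mem v) (L.R_mem v'), L.e_eq hg (M.mul_mem (L.R_mem v) (L.R_mem v'))]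
  all_goals rw [(Commute.mul_pow (L.comm _ (L.R_mem v) _ (L.R_mem v')) 2), L.R_sq hv, L.R_sq hv']
  exact c.V.mul_mem hv hv'

theorem Lift.e_one (L : c.Lift H M) {g : G} (hg : g ∈ H) : L.e g 1 = 1 := by
  have h := L.e_mul_right hg c.V.one_mem c.V.one_mem
  rwa [one_mul, left_eq_mul] at h

theorem Lift.e_mul_left (L : c.Lift H M) {g g' v : G} (hg : g ∈ H) (hg' : g' ∈ H) (hv : v ∈ c.V) :
    L.e (g * g') v = L.e g v * L.e g' v := by
  show ⁅g * g', L.R v⁆ = _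
  rw [comm_mul_left]
  show g * L.e g' v * g⁻¹ * L.e g v = _
  rw [c.conjV (L.e_mem hg' hv)]
  exact (c.central _ (L.e_mem hg' hv) _).symm

theorem Lift.e_of_mem (L : c.Lift H M) {g : G} (hg : g ∈ M) (v : G) : L.e g v = 1 :=
  commutatorElement_eq_one_iff_mul_comm.2 (L.comm g hg _ (L.R_mem v))

theorem Lift.e_act (L : c.Lift H M) {g v : G} (hg : g ∈ H) (hv : v ∈ c.V) :
    L.e (φ g) (φ v) = φ (L.e g v) := by
  show _ = φ ⁅g, L.R v⁆
  rw [map_comm, L.e_eq (L.invH g hg) (L.invM _ (L.R_mem v))]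
  all_goals rw [← _root_.map_pow, L.R_sq hv]
  exact c.invV v hv

/-- The expansion of the action in eigencoordinates. -/
theorem Lift.exists_coeff (L : c.Lift H M) {P : Subgroup G} (hP : P ≤ H) (U : Weights φ P M) :
    ∃ E : Fin c.W.l → Fin U.l → Fin c.W.l → K,
      (∀ k, ∀ g ∈ P, ∀ v ∈ c.V,
        c.W.y k (L.e g v) = ∑ p, ∑ i, E k p i * U.y p g * c.W.y i v) ∧
      ∀ k p i, E k p i ≠ 0 → U.w p * c.W.w i = c.W.w k := by
  have h : ∀ k, ∃ A : Fin U.l → Fin c.W.l → K, ∀ g ∈ P, ∀ v ∈ c.V,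
      c.W.y k (L.e g v) = ∑ p, ∑ i, A p i * U.y p g * c.W.y i v := fun k =>
    U.bil_span c.W (fun g v => c.W.y k (L.e g v))
      (fun g hg g' hg' v hv => by
        rw [L.e_mul_left (hP hg) (hP hg') hv, c.W.y_mul k (L.e_mem (hP hg) hv) (L.e_mem (hP hg') hv)])
      (fun g hg v hv v' hv' => by
        rw [L.e_mul_right (hP hg) hv hv', c.W.y_mul k (L.e_mem (hP hg) hv) (L.e_mem (hP hg) hv')])
      (fun g _ hgM v _ => by rw [L.e_of_mem hgM]; exact c.W.one_y k)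
      (fun g hg v _ hv1 => by rw [mem_bot.1 hv1, L.e_one (hP hg)]; exact c.W.one_y k)
  choose E hE using h
  refine ⟨E, hE, fun k p i hne => U.bil_eqv c.W (hE k) (fun g hg v hv => ?_) p i hne⟩
  rw [L.e_act (hP hg) hv, c.W.y_act k (L.e_mem (hP hg) hv)]

theorem Lift.dvd_of_e_ne (L : c.Lift H M) {P : Subgroup G} (hP : P ≤ H) (U : Weights φ P M)
    {g v : G} (hg : g ∈ P) (hv : v ∈ c.V) (hne : L.e g v ≠ 1) : U.l ∣ c.W.l := by
  obtain ⟨E, hE, hEw⟩ := L.exists_coeff hP U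
  obtain ⟨p, i, h⟩ : ∃ p i, E 0 p i ≠ 0 := by
    by_contra h
    push Not at h
    exact hne (c.eq_one_of_y (L.e_mem (hP hg) hv) 0 (by rw [hE 0 g hg v hv]; simp [h]))
  have e := hEw 0 p i h
  have e2 : (U.w p * c.W.w i) ^ 2 ^ c.W.l = c.W.w 0 := by rw [e, c.W.w_per]
  rw [mul_pow, c.W.w_per] at e2
  exact U.dvd_of_pow (mul_right_cancel₀ (c.W.w_ne i) (e2.trans e.symm))

variable (c)

/-- Squaring on a section over the involutions forces at least `n` conjugate eigenvalues. -/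
theorem dvd_of_squares {P : Subgroup G} (U : Weights φ P c.V) (hsq : SqIn P c.V) :
    c.W.l ∣ U.l := by
  have hcV : ∀ {a b : G}, a ∈ P → b ∈ P → ⁅a, b⁆ ∈ c.V := fun ha hb => comm_mem_of_sq hsq ha hb
  have hl : ∀ {a a' b : G}, a ∈ P → a' ∈ P → b ∈ P → ⁅a * a', b⁆ = ⁅a, b⁆ * ⁅a', b⁆ := by
    intro a a' b ha ha' hb
    rw [comm_mul_left, c.conjV (hcV ha' hb)]
    exact (c.central _ (hcV ha' hb) _).symm
  obtain ⟨C, hC⟩ := U.bil_span U (fun a b => c.W.y 0 ⁅a, b⁆)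
    (fun a ha a' ha' b hb => by rw [hl ha ha' hb, c.W.y_mul 0 (hcV ha hb) (hcV ha' hb)])
    (fun a ha b hb b' hb' => by
      rw [comm_mul_right, c.conjV (hcV ha hb'), c.W.y_mul 0 (hcV ha hb) (hcV ha hb')])
    (fun a _ haV b _ => by rw [c.comm_V' haV]; exact c.W.one_y 0)
    (fun a _ b _ hbV => by rw [c.comm_V hbV]; exact c.W.one_y 0)
  have hd := U.diag (a := 0) (A := C) fun g hg => by
    rw [← hC g hg g hg, commutatorElement_self, c.W.one_y]; simp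
  have hCw : ∀ p q, C p q ≠ 0 → U.w p * U.w q = c.W.w 0 := U.bil_eqv U hC fun a ha b hb => by
    rw [← map_comm, c.W.y_act 0 (hcV ha hb)]
  have hinv : ∀ {a b : G}, a ∈ P → b ∈ P → ⁅a⁻¹, b⁆ = ⁅a, b⁆ := fun {a b} ha hb => by
    have h := hl (P.inv_mem ha) ha hb
    rw [inv_mul_cancel, commutatorElement_one_left] at h
    rw [eq_inv_of_mul_eq_one_left h.symm, c.inv_eq (hcV ha hb)]
  obtain ⟨a, ha, hQ⟩ := U.quad (Q := fun g => c.W.y 0 (g ^ 2)) (μ := c.W.w 0) (C := C)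
    (fun a ha b hb => by
      rw [mul_sq, hinv ha hb, c.W.y_mul 0 (c.V.mul_mem (hsq a ha) (hcV ha hb)) (hsq b hb),
        c.W.y_mul 0 (hsq a ha) (hcV ha hb), ← hC a ha b hb]
      ring)
    (fun p => (hd.2 p).symm) hd.1 hCw
    (fun g _ hgV => by rw [(c.mem_V g).1 hgV]; exact c.W.one_y 0)
    (fun g hg => by rw [← _root_.map_pow, c.W.y_act 0 (hsq g hg)])
  obtain ⟨g, hg, hgV⟩ := U.exists_ne
  have hne : c.W.y 0 (g ^ 2) ≠ 0 := fun h =>
    hgV ((c.mem_V g).2 (c.eq_one_of_y (hsq g hg) 0 h))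
  rcases em (∃ p, a p ≠ 0) with ⟨p, hp⟩ | hall
  · exact c.dvd_of_per (k := 0) (by rw [← ha p hp, U.w_per])
  rcases em (∃ p q, C p q ≠ 0) with ⟨p, q, hpq⟩ | hC0
  · exact c.dvd_of_per (k := 0) (by rw [← hCw p q hpq, mul_pow, U.w_per, U.w_per])
  push Not at hall hC0
  refine absurd ?_ hne
  rw [hQ g hg]
  simp [hall, hC0]

end Ctx

end CfsgLib.PGroup.SuzukiExp
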