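import Mathlib
import Cfsg.Agent.Lib.PGroup.Suzuki.Lift

/-!
A maximal invariant subgroup that is abelian: the whole group is abelian or has exponent four.
-/

set_option autoImplicit false

namespace CfsgLib.PGroup.SuzukiExp

open Subgroup Finset
open scoped commutatorElement

variable {G : Type*} [Group G] [Finite G] {φ : MulAut G}

/-- Abelian or of exponent four. -/
def Good (H : Subgroup G) : Prop :=
  (∀ x ∈ H, ∀ y ∈ H, x * y = y * x) ∨ ∀ x ∈ H, x ^ 4 = 1

namespace Ctx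

variable (c : Ctx φ)

open Fin.NatCast in
/-- An equivariant family of idempotents on the involutions, indexed by an irreducible section with
as many conjugate eigenvalues as `V`, vanishes. -/
theorem idem_false {H N : Subgroup G} (U : Weights φ H N) (hl : U.l = c.W.l)
    (E : Fin c.W.l → Fin U.l → Fin c.W.l → K)
    (hw : ∀ k p i, E k p i ≠ 0 → U.w p * c.W.w i = c.W.w k)
    (hrec : ∀ k p j, E k (p + 1) j = ∑ i, E k p i * E i p j)
    (hne : ∃ k p i, E k p i ≠ 0) : False := by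
  classical
  let Nm : Fin U.l → Matrix (Fin c.W.l) (Fin c.W.l) K := fun p => Matrix.of fun k i => E k p i
  have hmul : ∀ p, Nm (p + 1) = Nm p * Nm p := fun p => by
    ext k j
    rw [Matrix.mul_apply]
    exact hrec k p j
  have hpow : ∀ t : ℕ, Nm (t : Fin U.l) = Nm 0 ^ 2 ^ t := by
    intro t
    induction t with
    | zero => simp
    | succ t ih => rw [Nat.cast_succ, hmul, ih, pow_succ 2 t, pow_mul, sq]
  have hN0 : Nm 0 ≠ 0 := fun h => by
    obtain ⟨k, p, i, hE⟩ := hne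
    have h1 := congrFun (congrFun (hpow p) k) i
    rw [h, zero_pow (pow_ne_zero _ two_ne_zero), Fin.cast_val_eq_self] at h1
    exact hE h1
  have hbig : Nm 0 ^ c.W.l ≠ 0 := by
    intro h
    refine hN0 ?_
    have h1 := hpow (U.l * c.W.l)
    rw [show ((U.l * c.W.l : ℕ) : Fin U.l) = 0 from Fin.ext (by simp [Fin.val_natCast])] at h1
    rw [h1]
    exact pow_eq_zero_of_le (le_trans (Nat.lt_two_pow_self).le
      (Nat.pow_le_pow_right (by omega) (Nat.le_mul_of_pos_left _ U.pos))) h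
  have hpath : ∀ (t : ℕ) (k i : Fin c.W.l), (Nm 0 ^ t) k i ≠ 0 →
      c.W.w k = U.η ^ t * c.W.w i ∧ ∀ s ≤ t, ∃ j, c.W.w j = U.η ^ s * c.W.w i := by
    intro t
    induction t with
    | zero =>
      intro k i h
      rw [pow_zero, Matrix.one_apply] at h
      have : k = i := by by_contra e; rw [if_neg e] at h; exact h rfl
      subst this
      exact ⟨by rw [pow_zero, one_mul], fun s hs => ⟨k, by rw [Nat.le_zero.1 hs, pow_zero, one_mul]⟩⟩
    | succ t ih =>
      intro k i h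
      rw [pow_succ', Matrix.mul_apply] at h
      obtain ⟨j, -, hj⟩ := Finset.exists_ne_zero_of_sum_ne_zero h
      obtain ⟨h1, h2⟩ := mul_ne_zero_iff.1 hj
      obtain ⟨e1, e2⟩ := ih j i h2
      have e3 : c.W.w k = U.η ^ (t + 1) * c.W.w i := by
        rw [← hw k 0 j h1, U.w_zero, e1, pow_succ', mul_assoc]
      refine ⟨e3, fun s hs => ?_⟩
      rcases Nat.lt_or_eq_of_le hs with hs | rfl
      · exact e2 s (Nat.lt_succ_iff.1 hs)
      · exact ⟨k, e3⟩
  obtain ⟨k, i, hki⟩ : ∃ k i, (Nm 0 ^ c.W.l) k i ≠ 0 := by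
    by_contra h
    push Not at h
    exact hbig (Matrix.ext fun k i => h k i)
  choose f hf using fun s : Fin (c.W.l + 1) =>
    (hpath _ k i hki).2 s (Nat.lt_succ_iff.1 s.2)
  obtain ⟨s, s', hne', hss⟩ := Fintype.exists_ne_map_eq_of_card_lt f (by simp)
  have he : U.η ^ (s : ℕ) = U.η ^ (s' : ℕ) :=
    mul_right_cancel₀ (c.W.w_ne i) (by rw [← hf s, ← hf s', hss])
  obtain ⟨d, hd0, hdn, hd⟩ : ∃ d, 0 < d ∧ d ≤ U.l ∧ U.η ^ d = 1 := by
    wlog hlt : (s : ℕ) < s' generalizing s s'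
    · exact this s' s hne'.symm hss.symm he.symm
        (lt_of_le_of_ne (not_lt.1 hlt) fun e => hne' (Fin.ext e.symm))
    refine ⟨s' - s, by omega, by omega, ?_⟩
    refine mul_left_cancel₀ (pow_ne_zero (s : ℕ) U.η_ne) ?_
    rw [← pow_add, mul_one, he]; congr 1; omega
  have hη1 : U.η ≠ 1 := by
    intro h1
    have := U.η_inj 0 U.pos 1 (by have := c.two_le; omega) (by simp [h1])
    omega
  let g : Fin U.l → Fin d := fun p => ⟨2 ^ (p : ℕ) % d, Nat.mod_lt _ hd0⟩
  have hg : ∀ p : Fin U.l, U.η ^ ((g p : Fin d) : ℕ) = U.w p := fun p => by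
    show U.η ^ (2 ^ (p : ℕ) % d) = _
    conv_rhs => rw [Weights.w, ← Nat.div_add_mod (2 ^ (p : ℕ)) d, pow_add, pow_mul, hd, one_pow,
      one_mul]
  have hsurj : Function.Surjective g := by
    have hinj : Function.Injective g := fun p q e => U.w_inj (by rw [← hg, ← hg, e])
    have hcard := Fintype.card_le_of_injective g hinj
    simp only [Fintype.card_fin] at hcard
    exact ((Fintype.bijective_iff_injective_and_card g).2
      ⟨hinj, by simp only [Fintype.card_fin]; omega⟩).2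
  obtain ⟨p, hp⟩ := hsurj ⟨0, hd0⟩
  refine hη1 ?_
  have h1 : U.w p = 1 := by rw [← hg, hp, pow_zero]
  rw [Weights.w] at h1
  haveI := Fact.mk Nat.prime_two
  refine (iterateFrobenius_inj K 2 (p : ℕ)).eq_iff.1 ?_
  simp only [iterateFrobenius_def, one_pow, h1]

/-- The case of an abelian maximal invariant subgroup. -/
theorem abelianMax {H M : Subgroup G} (hH : Inv φ H) (hM : Inv φ M) (hMH : M ≤ H) (hV : c.V ≤ M)
    (hc : ∀ a ∈ M, ∀ b ∈ M, a * b = b * a) (hsq : SqIn H M) (U : Weights φ H M)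
    (ih : ∀ P, Inv φ P → P < H → Good P) : Good H := by
  classical
  haveI := Fact.mk Nat.prime_two
  by_cases hM2 : ∀ a ∈ M, a ^ 2 = 1
  · refine Or.inr fun x hx => ?_
    rw [show 4 = 2 * 2 by norm_num, pow_mul]
    exact hM2 _ (hsq x hx)
  -- the exponent `2 ^ r` of `M`
  obtain ⟨r, hr, hexp, htop⟩ : ∃ r, 2 ≤ r ∧ (∀ a ∈ M, a ^ 2 ^ r = 1) ∧
      ∀ v ∈ c.V, ∃ a ∈ M, a ^ 2 ^ (r - 1) = v := by
    obtain ⟨⟨a₀, ha₀⟩, hmax⟩ := Finite.exists_max fun a : M => orderOf (a : G)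
    obtain ⟨r, hr0⟩ := IsPGroup.iff_orderOf.1 c.pG a₀
    have hexp : ∀ a ∈ M, a ^ 2 ^ r = 1 := fun a ha => by
      obtain ⟨j, hj⟩ := IsPGroup.iff_orderOf.1 c.pG a
      have h : orderOf a ≤ orderOf a₀ := hmax ⟨a, ha⟩
      rw [hj, hr0] at h
      exact orderOf_dvd_iff_pow_eq_one.1
        (hj ▸ pow_dvd_pow 2 ((Nat.pow_le_pow_iff_right one_lt_two).1 h))
    have hr2 : 2 ≤ r := by
      by_contra h
      refine hM2 fun a ha => orderOf_dvd_iff_pow_eq_one.1
        ((orderOf_dvd_of_pow_eq_one (hexp a ha)).trans ?_)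
      simpa using pow_dvd_pow 2 (show r ≤ 1 by omega)
    let X : Subgroup G :=
      { carrier := {v | ∃ a ∈ M, a ^ 2 ^ (r - 1) = v}
        one_mem' := ⟨1, M.one_mem, one_pow _⟩
        mul_mem' := by
          rintro _ _ ⟨a, ha, rfl⟩ ⟨b, hb, rfl⟩
          exact ⟨a * b, M.mul_mem ha hb, Commute.mul_pow (hc a ha b hb) _⟩
        inv_mem' := by
          rintro _ ⟨a, ha, rfl⟩
          exact ⟨a⁻¹, M.inv_mem ha, inv_pow a _⟩ }
    refine ⟨r, hr2, hexp, c.irred (X := X) ?_ (x := a₀ ^ 2 ^ (r - 1)) ⟨a₀, ha₀, rfl⟩ ?_ ?_⟩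
    · rintro _ ⟨a, ha, rfl⟩
      exact ⟨φ a, hM a ha, (_root_.map_pow φ a _).symm⟩
    · rw [c.mem_V, ← pow_mul, ← pow_succ, show r - 1 + 1 = r by omega]; exact hexp a₀ ha₀
    · exact pow_ne_one_of_lt_orderOf (pow_ne_zero _ two_ne_zero)
        (hr0 ▸ Nat.pow_lt_pow_right one_lt_two (by omega))
  have hI : ∀ v : G, v * v = 1 → ∃ a ∈ M, a ^ 2 ^ (r - 1) = v := fun v hv =>
    htop v ((c.mem_V v).2 (by rw [sq]; exact hv))
  have hsqrt : ∀ j < r, ∀ a ∈ M, a ^ 2 ^ j = 1 → ∃ b ∈ M, b ^ 2 = a := fun j hj a ha h => by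
    obtain ⟨b, hb, hbb⟩ := CfsgLib.Suzuki.TwoGroup.exists_sqrt M hc hI j hj a ha h
    exact ⟨b, hb, by rw [sq]; exact hbb⟩
  have hconj : ∀ g ∈ H, ∀ m ∈ M, g * m * g⁻¹ ∈ M := fun g hg m hm =>
    conj_mem_of_sq hsq le_rfl hMH hg hm
  have L : c.Lift H M := ⟨hH, hM, hMH, hV, hc, hconj, fun v hv =>
    hsqrt 1 (by omega) v (hV hv) (by simpa using (c.mem_V v).1 hv)⟩
  have hpow2 : ∀ a : G, (a ^ 2 ^ (r - 2)) ^ 2 = a ^ 2 ^ (r - 1) := fun a => by
    rw [← pow_mul, ← pow_succ, show r - 2 + 1 = r - 1 by omega]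
  have hVtop : ∀ a ∈ M, a ^ 2 ^ (r - 1) ∈ c.V := fun a ha => by
    rw [c.mem_V, ← pow_mul, ← pow_succ, show r - 1 + 1 = r by omega]; exact hexp a ha
  have hCm : ∀ {g h : G}, g ∈ H → h ∈ H → ⁅g, h⁆ ∈ M := fun hg hh => comm_mem_of_sq hsq hg hh
  -- the commutator and square maps, read on the involutions
  set cc : G → G → G := fun h g => ⁅h, g⁆ ^ 2 ^ (r - 1) with hcc
  set s : G → G := fun g => g ^ 2 ^ r with hs
  have hs' : ∀ g, s g = (g ^ 2) ^ 2 ^ (r - 1) := fun g => by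
    show g ^ 2 ^ r = _
    rw [← pow_mul, ← pow_succ', show r - 1 + 1 = r by omega]
  have hsV : ∀ g ∈ H, s g ∈ c.V := fun g hg => by rw [hs']; exact hVtop _ (hsq g hg)
  have hccV : ∀ g ∈ H, ∀ h ∈ H, cc g h ∈ c.V := fun g hg h hh => hVtop _ (hCm hg hh)
  have hccl : ∀ a ∈ H, ∀ a' ∈ H, ∀ b ∈ H, cc (a * a') b = cc a b * cc a' b := by
    intro a ha a' ha' b hb
    show ⁅a * a', b⁆ ^ 2 ^ (r - 1) = _
    rw [comm_mul_left, Commute.mul_pow (hc _ (hconj a ha _ (hCm ha' hb)) _ (hCm ha hb)), conj_pow,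
      c.conjV (hVtop _ (hCm ha' hb))]
    exact (c.central _ (hccV a' ha' b hb) _).symm
  have hccs : ∀ a ∈ H, ∀ b ∈ H, cc b a = cc a b := fun a ha b hb => by
    show ⁅b, a⁆ ^ 2 ^ (r - 1) = _
    rw [← commutatorElement_inv a b, inv_pow]
    exact c.inv_eq (hccV a ha b hb)
  have hccr : ∀ a ∈ H, ∀ b ∈ H, ∀ b' ∈ H, cc a (b * b') = cc a b * cc a b' := by
    intro a ha b hb b' hb'
    rw [← hccs a ha _ (H.mul_mem hb hb'), hccl b hb b' hb' a ha, hccs a ha b hb, hccs a ha b' hb']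
  have hccN : ∀ a ∈ H, a ∈ M → ∀ b ∈ H, cc a b = 1 := by
    intro a _ haM b hb
    show ⁅a, b⁆ ^ 2 ^ (r - 1) = 1
    rw [← commutatorElement_inv b a, inv_pow, ← L.dd_pow hb haM, c.comm_V (hVtop a haM), inv_one]
  have hccN' : ∀ a ∈ H, ∀ b ∈ H, b ∈ M → cc a b = 1 := fun a ha b hb hbM => by
    rw [← hccs a ha b hb]; exact hccN b hb hbM a ha
  have hccd : ∀ a ∈ H, cc a a = 1 := fun a _ => by
    show ⁅a, a⁆ ^ 2 ^ (r - 1) = 1
    rw [commutatorElement_self, one_pow]
  have hcca : ∀ a ∈ H, ∀ b ∈ H, cc (φ a) (φ b) = φ (cc a b) := fun a _ b _ => by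
    show ⁅φ a, φ b⁆ ^ 2 ^ (r - 1) = φ (⁅a, b⁆ ^ 2 ^ (r - 1))
    rw [_root_.map_pow, map_comm]
  have hsM : ∀ a ∈ M, s a = 1 := fun a ha => hexp a ha
  have hsmul : ∀ a ∈ H, ∀ b ∈ H, s (a * b) = s a * s b * cc a b := by
    intro a ha b hb
    have h1 : cc a⁻¹ b = cc a b := by
      have e := hccl _ (H.inv_mem ha) a ha b hb
      rw [inv_mul_cancel, hccN 1 H.one_mem M.one_mem b hb] at e
      rw [eq_inv_of_mul_eq_one_left e.symm, c.inv_eq (hccV a ha b hb)]
    rw [hs', hs', hs', mul_sq, Commute.mul_pow (hc _ (M.mul_mem (hsq a ha)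
      (hCm (H.inv_mem ha) hb)) _ (hsq b hb)), Commute.mul_pow (hc _ (hsq a ha) _
      (hCm (H.inv_mem ha) hb))]
    show _ * cc a⁻¹ b * _ = _
    rw [h1, mul_assoc, ← c.central _ (hccV a ha b hb) _, ← mul_assoc]
  have hsa : ∀ a ∈ H, s (φ a) = φ (s a) := fun a _ => (_root_.map_pow φ a _).symm
  have hid : ∀ h ∈ H, ∀ g ∈ H, L.e h (s g) = L.e g (cc h g) * cc h g := by
    intro h hh g hg
    set m := ⁅h, g⁆ with hm
    have hmM : m ∈ M := hCm hh hg
    have h1 : ⁅h, g ^ 2⁆ = ⁅g, m⁆ * m ^ 2 := by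
      rw [comm_sq_right, ← hm, hc m hmM _ (hconj g hg m hmM), commutatorElement_def, sq]
      group
    have h2 : ⁅h, g ^ 2⁆ ^ 2 ^ (r - 2) = (⁅g, m⁆ * m ^ 2) ^ 2 ^ (r - 2) := by rw [h1]
    rw [← L.dd_pow hh (hsq g hg), Commute.mul_pow (hc _ (L.dd_mem hg hmM) _ (M.pow_mem hmM 2)),
      ← L.dd_pow hg hmM, ← pow_mul m 2, ← pow_succ', show r - 2 + 1 = r - 1 by omega,
      L.e_eq hh (M.pow_mem (hsq g hg) _) (by rw [hpow2, ← hs']; exact hsV g hg),
      L.e_eq hg (M.pow_mem hmM _) (by rw [hpow2]; exact hVtop m hmM), hpow2, hpow2, ← hs'] at h2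
    exact h2
  obtain ⟨E, hE, hEw⟩ := L.exists_coeff le_rfl U
  -- the commutator map vanishes
  have hcc1 : ∀ a ∈ H, ∀ b ∈ H, cc a b = 1 := by
    by_cases hT : ∃ p i, U.w p = c.W.w i
    · obtain ⟨p, i, hpi⟩ := hT
      exact fun a ha b hb => c.alt_vanish U (c.all_mem U hpi) cc hccV hccl hccr hccN hccN' hccd
        hcca ha hb
    push Not at hT
    choose C hC using fun k => U.bil_span U (fun a b => c.W.y k (cc a b))
      (fun a ha a' ha' b hb => by
        rw [hccl a ha a' ha' b hb, c.W.y_mul k (hccV _ ha _ hb) (hccV _ ha' _ hb)])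
      (fun a ha b hb b' hb' => by
        rw [hccr a ha b hb b' hb', c.W.y_mul k (hccV _ ha _ hb) (hccV _ ha _ hb')])
      (fun a ha haN b hb => by rw [hccN a ha haN b hb]; exact c.W.one_y k)
      (fun a ha b hb hbN => by rw [hccN' a ha b hb hbN]; exact c.W.one_y k)
    have hd : ∀ k, _ := fun k => U.diag (a := 0) (A := C k) fun g hg => by
      rw [← hC k g hg g hg, hccd g hg, c.W.one_y]; simp
    have hS : ∀ k, ∀ g ∈ H, c.W.y k (s g) =
        ∑ q, ∑ q', (if q < q' then C k q q' else 0) * U.y q g * U.y q' g := by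
      intro k
      obtain ⟨a, ha, hQ⟩ := U.quad (Q := fun g => c.W.y k (s g)) (μ := c.W.w k) (C := C k)
        (fun a ha b hb => by
          rw [hsmul a ha b hb, c.W.y_mul k (c.V.mul_mem (hsV a ha) (hsV b hb)) (hccV a ha b hb),
            c.W.y_mul k (hsV a ha) (hsV b hb), ← hC k a ha b hb])
        (fun p => ((hd k).2 p).symm) (hd k).1
        (U.bil_eqv U (hC k) fun a ha b hb => by
          rw [hcca a ha b hb, c.W.y_act k (hccV a ha b hb)])
        (fun g _ hgM => by rw [hsM g hgM]; exact c.W.one_y k)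
        (fun g hg => by rw [hsa g hg, c.W.y_act k (hsV g hg)])
      intro g hg
      have h0 : a = 0 := funext fun p => by_contra fun hp => hT p k (ha p hp)
      rw [hQ g hg, h0]
      simp
    have hrec : ∀ k p q, C k p (q + 1) = ∑ i, E k q i * C i p q := by
      intro k p q
      have key : ∀ g ∈ H, ∑ q, ∑ q', (∑ i, (E k p i * (if q < q' then C i q q' else 0) +
          E k q i * C i p q')) * U.y q g * U.y q' g = ∑ q, C k p q * U.y q g := by
        intro g hg
        have h1 : (fun p => ∑ q, ∑ q', (∑ i, (E k p i * (if q < q' then C i q q' else 0) +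
            E k q i * C i p q')) * U.y q g * U.y q' g) = fun p => ∑ q, C k p q * U.y q g := by
          refine U.coeff_unique fun h hh => ?_
          have h2 : c.W.y k (cc h g) = c.W.y k (L.e h (s g)) + c.W.y k (L.e g (cc h g)) := by
            rw [hid h hh g hg,
              c.W.y_mul k (L.e_mem hg (hccV h hh g hg)) (hccV h hh g hg),
              add_comm (c.W.y k (L.e g (cc h g))), add_assoc, CharTwo.add_self_eq_zero, add_zero]
          have e1 : c.W.y k (L.e h (s g)) = ∑ p, ∑ q, ∑ q', ∑ i,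
              E k p i * (if q < q' then C i q q' else 0) * U.y q g * U.y q' g * U.y p h := by
            rw [hE k h hh _ (hsV g hg)]
            refine sum_congr rfl fun p _ => ?_
            simp only [hS _ g hg, mul_sum]
            rw [sum_comm]
            refine sum_congr rfl fun q _ => ?_
            rw [sum_comm]
            exact sum_congr rfl fun q' _ => sum_congr rfl fun i _ => by ring
          have e2 : c.W.y k (L.e g (cc h g)) = ∑ p, ∑ q, ∑ q', ∑ i,
              E k q i * C i p q' * U.y q g * U.y q' g * U.y p h := by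
            rw [hE k g hg _ (hccV h hh g hg)]
            simp only [hC _ h hh g hg, mul_sum]
            rw [sum_comm (γ := Fin U.l) (s := univ) (t := univ)
              (f := fun p q => ∑ q', ∑ i, E k q i * C i p q' * U.y q g * U.y q' g * U.y p h)]
            refine sum_congr rfl fun q _ => ?_
            rw [sum_comm]
            refine sum_congr rfl fun p _ => ?_
            rw [sum_comm]
            exact sum_congr rfl fun q' _ => sum_congr rfl fun i _ => by ring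
          calc ∑ p, (∑ q, ∑ q', (∑ i, (E k p i * (if q < q' then C i q q' else 0) +
                E k q i * C i p q')) * U.y q g * U.y q' g) * U.y p h
              = c.W.y k (L.e h (s g)) + c.W.y k (L.e g (cc h g)) := by
                rw [e1, e2]
                simp only [sum_mul, add_mul, sum_add_distrib]
            _ = ∑ p, (∑ q, C k p q * U.y q g) * U.y p h := by
                rw [← h2, hC k h hh g hg]
                simp only [sum_mul]
                exact sum_congr rfl fun p _ => sum_congr rfl fun q _ => by ring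
        exact congrFun h1 p
      have h3 := (U.diag key).2 q
      simpa using h3
    have hC0 : ∀ p q k, C k p q = 0 := fun p q =>
      forall_of_succ (P := fun q => ∀ k, C k p q = 0) (p₀ := p) (fun k => ((hd k).2 p).symm)
        (fun q hq k => by rw [hrec]; simp [hq]) q
    intro a ha b hb
    refine c.eq_one_of_y (hccV a ha b hb) 0 ?_
    rw [hC 0 a ha b hb]
    simp [hC0]
  have hse : ∀ h ∈ H, ∀ g ∈ H, L.e h (s g) = 1 := fun h hh g hg => by
    rw [hid h hh g hg, hcc1 h hh g hg, L.e_one hg, mul_one]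
  by_cases he : ∀ g ∈ H, ∀ v ∈ c.V, L.e g v = 1
  · -- `H` acts trivially on the elements of order four
    have hdd : ∀ g ∈ H, ∀ a ∈ M, ⁅g, a⁆ ∈ c.V := by
      intro g hg a ha
      have hy := L.dd_mem hg ha
      have h1 : ⁅g, ⁅g, a⁆⁆ * ⁅g, a⁆ ^ 2 = 1 := by
        have e : ⁅g ^ 2, a⁆ = ⁅g, ⁅g, a⁆⁆ * ⁅g, a⁆ ^ 2 := by
          simp only [sq, commutatorElement_def]; group
        rw [← e, commutatorElement_eq_one_iff_mul_comm.2 (hc _ (hsq g hg) a ha)]
      have key : ∀ j, ⁅g, a⁆ ^ 2 ^ (j + 1) = 1 → ⁅g, a⁆ ^ 2 = 1 := by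
        intro j
        induction j with
        | zero => intro h; simpa using h
        | succ j ihj =>
          intro h
          refine ihj ?_
          rcases Nat.eq_zero_or_pos j with rfl | hj
          · have h2 : ⁅g, ⁅g, a⁆⁆ = 1 := by
              have hw : ⁅g, a⁆ ^ 2 ∈ c.V := by
                rw [c.mem_V, ← pow_mul]; simpa using h
              rw [L.e_eq hg hy hw]
              exact he g hg _ hw
            simpa [h2] using h1
          · have hw : (⁅g, a⁆ ^ 2 ^ j) ^ 2 ∈ c.V := by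
              rw [c.mem_V, ← pow_mul, ← pow_mul, show 2 ^ j * (2 * 2) = 2 ^ (j + 1 + 1) by
                rw [pow_succ, pow_succ, mul_assoc]]
              exact h
            have h2 : ⁅g, ⁅g, a⁆⁆ ^ 2 ^ j = 1 := by
              rw [← L.dd_pow hg hy, L.e_eq hg (M.pow_mem hy _) hw]
              exact he g hg _ hw
            have h3 : (⁅g, ⁅g, a⁆⁆ * ⁅g, a⁆ ^ 2) ^ 2 ^ j = 1 ^ 2 ^ j := by rw [h1]
            rw [Commute.mul_pow (hc _ (L.dd_mem hg hy) _ (M.pow_mem hy 2)), h2, one_mul, one_pow,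
              ← pow_mul, ← pow_succ'] at h3
            exact h3
      rw [c.mem_V]
      exact key (r - 1) (by rw [show r - 1 + 1 = r by omega]; exact hexp _ hy)
    obtain ⟨g₀, hg₀, hs0⟩ : ∃ g ∈ H, s g ≠ 1 := by
      by_contra hall
      push Not at hall
      obtain ⟨g, hg, hgM⟩ := U.exists_ne
      obtain ⟨b, hb, hb2⟩ := hsqrt (r - 1) (by omega) _ (hsq g hg) (by rw [← hs']; exact hall g hg)
      set u := g * b⁻¹ with hu
      have huH : u ∈ H := H.mul_mem hg (H.inv_mem (hMH hb))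
      have hu2 : u ^ 2 ∈ c.V := by
        rw [hu, mul_sq, ← hb2, mul_assoc, hc _ (hCm (H.inv_mem hg) (H.inv_mem (hMH hb))) _
          (M.pow_mem (M.inv_mem hb) 2), ← mul_assoc, inv_pow, mul_inv_cancel, one_mul]
        exact hdd _ (H.inv_mem hg) _ (M.inv_mem hb)
      set w := L.R (u ^ 2) with hwdef
      have hwM : w ∈ M := L.R_mem _
      have hw2 : w ^ 2 = u ^ 2 := L.R_sq hu2
      have h4 : u * w⁻¹ ∈ c.V := by
        rw [c.mem_V, mul_sq, L.e_eq (H.inv_mem huH) (M.inv_mem hwM)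
          (by rw [inv_pow]; exact c.V.inv_mem (hw2 ▸ hu2)),
          he _ (H.inv_mem huH) _ (by rw [inv_pow]; exact c.V.inv_mem (hw2 ▸ hu2)), mul_one,
          inv_pow, hw2, mul_inv_cancel]
      have h5 : u ∈ M := by simpa using M.mul_mem (hV h4) hwM
      exact hgM (by simpa [hu] using M.mul_mem h5 hb)
    have hsadd : ∀ a ∈ H, ∀ b ∈ H, s (a * b) = s a * s b := fun a ha b hb => by
      rw [hsmul a ha b hb, hcc1 a ha b hb, mul_one]
    obtain ⟨p, i, hpi⟩ : ∃ p i, U.w p = c.W.w i := by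
      obtain ⟨a, ha⟩ := U.span (fun g => c.W.y 0 (s g))
        (fun a ha b hb => by rw [hsadd a ha b hb, c.W.y_mul 0 (hsV a ha) (hsV b hb)])
        (fun a _ haM => by rw [hsM a haM]; exact c.W.one_y 0)
      obtain ⟨p, hp⟩ : ∃ p, a p ≠ 0 := by
        by_contra h
        push Not at h
        exact hs0 (c.eq_one_of_y (hsV g₀ hg₀) 0 (by rw [ha g₀ hg₀]; simp [h]))
      exact ⟨p, 0, U.eqv ha (fun g hg => by rw [hsa g hg, c.W.y_act 0 (hsV g hg)]) p hp⟩
    let X : Subgroup G :=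
      { carrier := {v | ∃ h ∈ H, s h = v}
        one_mem' := ⟨1, H.one_mem, one_pow _⟩
        mul_mem' := by
          rintro _ _ ⟨a, ha, rfl⟩ ⟨b, hb, rfl⟩
          exact ⟨a * b, H.mul_mem ha hb, hsadd a ha b hb⟩
        inv_mem' := by
          rintro _ ⟨a, ha, rfl⟩
          exact ⟨a⁻¹, H.inv_mem ha, inv_pow a _⟩ }
    have hsurj : c.V ≤ X := c.irred (X := X)
      (by rintro _ ⟨a, ha, rfl⟩; exact ⟨φ a, hH a ha, hsa a ha⟩)
      (x := s g₀) ⟨g₀, hg₀, rfl⟩ (hsV g₀ hg₀) hs0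
    have hβ : ∀ g ∈ H, ∀ h ∈ H, ⁅g, h ^ 2⁆ = 1 := by
      intro g hg h hh
      refine c.alt_vanish U (c.all_mem U hpi) (fun g h => ⁅g, h ^ 2⁆) ?_ ?_ ?_ ?_ ?_ ?_ ?_ hg hh
      · exact fun a ha b hb => hdd a ha _ (hsq b hb)
      · intro a ha a' ha' b hb
        show ⁅a * a', b ^ 2⁆ = _
        rw [comm_mul_left, c.conjV (hdd a' ha' _ (hsq b hb))]
        exact (c.central _ (hdd a' ha' _ (hsq b hb)) _).symm
      · intro a ha b hb b' hb'
        show ⁅a, (b * b') ^ 2⁆ = _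
        have hm := hCm (H.inv_mem hb) hb'
        obtain ⟨d, hd, hd2⟩ := hsqrt (r - 1) (by omega) _ hm (hcc1 _ (H.inv_mem hb) _ hb')
        rw [mul_sq, L.dd_mul ha (M.mul_mem (hsq b hb) hm) (hsq b' hb'),
          L.dd_mul ha (hsq b hb) hm, ← hd2, L.dd_pow ha hd, (c.mem_V _).1 (hdd a ha d hd), mul_one]
      · exact fun a _ haM b hb => commutatorElement_eq_one_iff_mul_comm.2 (hc a haM _ (hsq b hb))
      · intro a ha b _ hbM
        show ⁅a, b ^ 2⁆ = 1
        rw [L.dd_pow ha hbM]; exact (c.mem_V _).1 (hdd a ha b hbM)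
      · exact fun a _ => commutatorElement_eq_one_iff_mul_comm.2 (Commute.self_pow a 2)
      · intro a _ b _
        show ⁅φ a, φ b ^ 2⁆ = φ ⁅a, b ^ 2⁆
        rw [map_comm, _root_.map_pow]
    have hcen : ∀ g ∈ H, ∀ a ∈ M, ⁅g, a⁆ = 1 := by
      intro g hg a ha
      obtain ⟨h, hh, hsh⟩ := hsurj (hVtop a ha)
      obtain ⟨d, hd, hd2⟩ := hsqrt (r - 1) (by omega) ((h ^ 2)⁻¹ * a)
        (M.mul_mem (M.inv_mem (hsq h hh)) ha) (by
          rw [Commute.mul_pow (hc _ (M.inv_mem (hsq h hh)) _ ha), inv_pow, ← hs', hsh,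
            inv_mul_cancel])
      rw [show a = h ^ 2 * d ^ 2 by rw [hd2, mul_inv_cancel_left],
        L.dd_mul hg (hsq h hh) (M.pow_mem hd 2), hβ g hg h hh, L.dd_pow hg hd,
        (c.mem_V _).1 (hdd g hg d hd), mul_one]
    have hcomm2 : ∀ a ∈ H, ∀ b ∈ H, ⁅a, b⁆ ∈ c.V := by
      intro a ha b hb
      have h1 := comm_sq_right a b
      rw [hcen a ha _ (hsq b hb)] at h1
      have h2 : b * ⁅a, b⁆ * b⁻¹ = ⁅a, b⁆ :=
        mul_inv_eq_iff_eq_mul.2 (commutatorElement_eq_one_iff_mul_comm.1 (hcen b hb _ (hCm ha hb)))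
      rw [h2, ← sq] at h1
      exact (c.mem_V _).2 h1.symm
    refine Or.inl fun x hx y hy => commutatorElement_eq_one_iff_mul_comm.1 ?_
    refine c.alt_vanish U (c.all_mem U hpi) (fun a b => ⁅a, b⁆) hcomm2 ?_ ?_ ?_ ?_ ?_ ?_ hx hy
    · intro a ha a' ha' b hb
      show ⁅a * a', b⁆ = _
      rw [comm_mul_left, c.conjV (hcomm2 a' ha' b hb)]
      exact (c.central _ (hcomm2 a' ha' b hb) _).symm
    · intro a ha b hb b' hb'
      show ⁅a, b * b'⁆ = _
      rw [comm_mul_right, c.conjV (hcomm2 a ha b' hb')]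
    · intro a _ haM b hb
      show ⁅a, b⁆ = 1
      rw [← commutatorElement_inv b a, hcen b hb a haM, inv_one]
    · exact fun a ha b _ hbM => hcen a ha b hbM
    · exact fun a _ => commutatorElement_self a
    · exact fun a _ b _ => (map_comm φ a b).symm
  -- otherwise all squares of `H` are squares of `M`
  push Not at he
  obtain ⟨g₁, hg₁, v₁, hv₁, hne⟩ := he
  have hs1 : ∀ g ∈ H, s g = 1 := by
    intro g hg
    by_contra hsg
    let X : Subgroup G :=
      { carrier := {v | v ∈ c.V ∧ ∀ h ∈ H, L.e h v = 1}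
        one_mem' := ⟨c.V.one_mem, fun h hh => L.e_one hh⟩
        mul_mem' := fun {a b} ha hb => ⟨c.V.mul_mem ha.1 hb.1, fun h hh => by
          rw [L.e_mul_right hh ha.1 hb.1, ha.2 h hh, hb.2 h hh, one_mul]⟩
        inv_mem' := fun {a} ha => ⟨c.V.inv_mem ha.1, fun h hh => by
          rw [c.inv_eq ha.1]; exact ha.2 h hh⟩ }
    have hXi : Inv φ X := fun v hv => ⟨c.invV v hv.1, fun h hh => by
      have e := L.e_act (hH.symm_mem hh) hv.1
      rw [hv.2 _ (hH.symm_mem hh), _root_.map_one, MulEquiv.apply_symm_apply] at e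
      exact e⟩
    exact hne ((c.irred hXi (x := s g) ⟨hsV g hg, fun h hh => hse h hh g hg⟩ (hsV g hg) hsg
      hv₁).2 g₁ hg₁)
  rcases Nat.lt_or_ge r 3 with hr3 | hr3
  · refine Or.inr fun x hx => ?_
    have h := hs1 x hx
    rwa [hs, show r = 2 by omega] at h
  -- the squares of `M`
  let N : Subgroup G :=
    { carrier := {a | a ∈ M ∧ a ^ 2 ^ (r - 1) = 1}
      one_mem' := ⟨M.one_mem, one_pow _⟩
      mul_mem' := fun {a b} ha hb => ⟨M.mul_mem ha.1 hb.1, by
        rw [Commute.mul_pow (hc a ha.1 b hb.1), ha.2, hb.2, one_mul]⟩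
      inv_mem' := fun {a} ha => ⟨M.inv_mem ha.1, by rw [inv_pow, ha.2, inv_one]⟩ }
  have hNi : Inv φ N := fun a ha => ⟨hM a ha.1, by rw [← _root_.map_pow, ha.2, _root_.map_one]⟩
  have hNM : N ≤ M := fun a ha => ha.1
  obtain ⟨P, hPi, hNP, hPH, hMP, hMP'⟩ := exists_complement c.odd hH hM hNi hNM hMH
    (fun g hg => ⟨hsq g hg, by rw [← hs']; exact hs1 g hg⟩)
  obtain ⟨v0, hv0, hv01⟩ : ∃ v ∈ c.V, v ≠ 1 := by
    obtain ⟨v, hv, hv'⟩ := c.W.exists_ne
    exact ⟨v, hv, fun h => hv' (mem_bot.2 h)⟩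
  obtain ⟨a₀, ha₀, hav⟩ := htop v0 hv0
  have ha₀N : a₀ ∉ N := fun h => hv01 (hav ▸ h.2)
  have hPlt : P < H := lt_of_le_of_ne hPH fun e => ha₀N (hMP ▸ ⟨ha₀, e.symm ▸ hMH ha₀⟩)
  have hVN : c.V ≤ N := fun v hv => ⟨hV hv, by
    rw [show r - 1 = 1 + (r - 2) by omega, pow_add, pow_mul, pow_one, (c.mem_V v).1 hv, one_pow]⟩
  rcases ih P hPi hPlt with hPc | hP4
  · exfalso
    refine hne ?_
    have hw : L.R v₁ ∈ N := by
      refine ⟨L.R_mem _, ?_⟩
      rw [show r - 1 = 1 + (1 + (r - 3)) by omega, pow_add, pow_mul, pow_add, pow_mul, pow_one,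
        L.R_sq hv₁, (c.mem_V v₁).1 hv₁, one_pow]
    have hle : H ≤ centralizer {L.R v₁} := by
      refine hMP'.ge.trans ?_
      exact sup_le (fun a ha => mem_centralizer_singleton_iff.2 (hc a ha _ (L.R_mem v₁)))
        fun a ha => mem_centralizer_singleton_iff.2 (hPc a ha _ (hNP hw))
    exact commutatorElement_eq_one_iff_mul_comm.2 (mem_centralizer_singleton_iff.1 (hle hg₁))
  -- `r = 3`
  have hr3' : r = 3 := by
    by_contra h
    have h2 : a₀ ^ 2 ∈ P := hNP ⟨M.pow_mem ha₀ 2, by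
      rw [← pow_mul, ← pow_succ', show r - 1 + 1 = r by omega]; exact hexp a₀ ha₀⟩
    have h4 := hP4 _ h2
    rw [← pow_mul] at h4
    refine hv01 ?_
    rw [← hav, show r - 1 = 3 + (r - 4) by omega, pow_add, pow_mul,
      show 2 ^ 3 = 2 * 4 by norm_num, h4, one_pow]
  subst hr3'
  -- squaring on a complement
  have hPV : SqIn P c.V := fun x hx => by rw [c.mem_V, ← pow_mul]; exact hP4 x hx
  obtain ⟨P₀, hP₀i, hVP₀, hP₀P, hNP₀, hNP₀'⟩ := exists_complement c.odd hPi hNi c.invV hVN hNP hPV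
  have hU0 : ∀ a ∈ P₀, a ∈ M ↔ a ∈ c.V := fun a ha => ⟨fun h => by
    have h1 : a ∈ M ⊓ P := ⟨h, hP₀P ha⟩
    rw [hMP] at h1
    exact hNP₀ ▸ ⟨h1, ha⟩, fun h => hV h⟩
  have hne0 : ∃ a ∈ P₀, a ∉ c.V := by
    by_contra h
    push Not at h
    obtain ⟨g, hg, hgM⟩ := U.exists_ne
    refine hgM ?_
    have h1 : H ≤ M := by
      rw [← hMP', ← hNP₀']
      exact sup_le le_rfl (sup_le hNM fun a ha => hV (h a ha))
    exact h1 hg
  have hdvd := c.dvd_of_squares (U.restrict (hP₀P.trans hPH) hP₀i hU0 hne0)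
    (fun a ha => hPV a (hP₀P ha))
  have hdvd' := L.dvd_of_e_ne le_rfl U hg₁ hv₁ hne
  have hl : U.l = c.W.l := Nat.dvd_antisymm hdvd' hdvd
  -- idempotents
  have hidem : ∀ g ∈ H, ∀ v ∈ c.V, L.e g (L.e g v) = L.e g v := by
    intro g hg v hv
    obtain ⟨a, ha, rfl⟩ := htop v hv
    norm_num at *
    have h4 : (a ^ 2) ^ 2 = a ^ 4 := by rw [← pow_mul]
    have e1 : L.e g (a ^ 4) = ⁅g, a⁆ ^ 2 := by
      rw [← L.dd_pow hg ha, L.e_eq hg (M.pow_mem ha 2) (by rw [h4]; exact hv), h4]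
    have hy := L.dd_mem hg ha
    have hy2 : ⁅g, a⁆ ^ 2 ∈ c.V := e1 ▸ L.e_mem hg hv
    have e2 : L.e g (⁅g, a⁆ ^ 2) = ⁅g, ⁅g, a⁆⁆ := (L.e_eq hg hy hy2).symm
    have h1 : ⁅g, ⁅g, a⁆⁆ * ⁅g, a⁆ ^ 2 = 1 := by
      have e : ⁅g ^ 2, a⁆ = ⁅g, ⁅g, a⁆⁆ * ⁅g, a⁆ ^ 2 := by
        simp only [sq, commutatorElement_def]; group
      rw [← e, commutatorElement_eq_one_iff_mul_comm.2 (hc _ (hsq g hg) a ha)]
    rw [e1, e2, eq_inv_of_mul_eq_one_left h1, c.inv_eq hy2]
  exfalso
  refine c.idem_false U hl E hEw ?_ ?_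
  · intro k p j
    have key : ∀ g ∈ H, ∑ p, ∑ q, (∑ i, E k p i * E i q j) * U.y p g * U.y q g =
        ∑ p, E k p j * U.y p g := by
      intro g hg
      have h1 : (fun j => ∑ p, ∑ q, (∑ i, E k p i * E i q j) * U.y p g * U.y q g) =
          fun j => ∑ p, E k p j * U.y p g := by
        refine c.W.coeff_unique fun v hv => ?_
        calc ∑ j, (∑ p, ∑ q, (∑ i, E k p i * E i q j) * U.y p g * U.y q g) * c.W.y j v
            = c.W.y k (L.e g (L.e g v)) := by
              rw [hE k g hg _ (L.e_mem hg hv)]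
              simp only [hE _ g hg v hv, sum_mul, mul_sum]
              rw [sum_comm]
              refine sum_congr rfl fun p _ => ?_
              conv_rhs => rw [sum_comm]
              rw [sum_comm]
              refine sum_congr rfl fun q _ => ?_
              rw [sum_comm]
              exact sum_congr rfl fun i _ => sum_congr rfl fun j _ => by ring
          _ = c.W.y k (L.e g v) := by rw [hidem g hg v hv]
          _ = ∑ j, (∑ p, E k p j * U.y p g) * c.W.y j v := by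
              rw [hE k g hg v hv, sum_comm]
              exact sum_congr rfl fun j _ => by rw [sum_mul]
      exact congrFun h1 j
    exact (U.diag key).2 p
  · by_contra h
    push Not at h
    exact hne (c.eq_one_of_y (L.e_mem hg₁ hv₁) 0 (by rw [hE 0 g₁ hg₁ v₁ hv₁]; simp [h]))

end Ctx

end CfsgLib.PGroup.SuzukiExp
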