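import Mathlib
import Cfsg.Agent.Lib.PGroup.Basic
import Cfsg.Agent.Lib.PGroup.Suzuki.AbelianMax

/-!
A `2`-group with central involutions and an automorphism of odd order acting on them with generic
eigenvalues is abelian or has exponent four.
-/

set_option autoImplicit false
set_option linter.style.haveILetI false

namespace CfsgLib.PGroup.SuzukiExp

open Subgroup Finset
open scoped commutatorElement

variable {G : Type*} [Group G] [Finite G] {φ : MulAut G}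

theorem comm_sq_left (a b : G) : ⁅a ^ 2, b⁆ = ⁅a, ⁅a, b⁆⁆ * ⁅a, b⁆ ^ 2 := by
  simp only [sq, commutatorElement_def]; group

namespace Ctx

variable (c : Ctx φ)

theorem center_sq_eq_one {X : Subgroup G} (hX : Inv φ X) (hsq : SqIn X c.V)
    (hna : ¬ ∀ x ∈ X, ∀ y ∈ X, x * y = y * x) {z : G} (hz : z ∈ X)
    (hzc : ∀ x ∈ X, x * z = z * x) : z ^ 2 = 1 := by
  by_contra hne
  let S : Subgroup G :=
    { carrier := {v | ∃ z ∈ X, (∀ x ∈ X, x * z = z * x) ∧ z ^ 2 = v}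
      one_mem' := ⟨1, X.one_mem, fun x _ => by simp, one_pow 2⟩
      mul_mem' := by
        rintro _ _ ⟨a, ha, hac, rfl⟩ ⟨b, hb, hbc, rfl⟩
        exact ⟨a * b, X.mul_mem ha hb,
          fun x hx => (Commute.mul_right (show Commute x a from hac x hx) (hbc x hx)).eq,
          Commute.mul_pow (hbc a ha) 2⟩
      inv_mem' := by
        rintro _ ⟨a, ha, hac, rfl⟩
        exact ⟨a⁻¹, X.inv_mem ha, fun x hx => (Commute.inv_right (show Commute x a from hac x hx)).eq,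
          inv_pow a 2⟩ }
  have hS : c.V ≤ S := c.irred (X := S)
    (by
      rintro _ ⟨a, ha, hac, rfl⟩
      refine ⟨φ a, hX a ha, fun x hx => ?_, (_root_.map_pow φ a 2).symm⟩
      have h := congrArg φ (hac _ (hX.symm_mem hx))
      rwa [_root_.map_mul, _root_.map_mul, MulEquiv.apply_symm_apply] at h)
    (x := z ^ 2) ⟨z, hz, hzc, rfl⟩ (hsq z hz) hne
  have hcen : ∀ m ∈ X, ∀ x ∈ X, x * m = m * x := by
    intro m hm x hx
    obtain ⟨w, -, hwc, hw2⟩ := hS (hsq m hm)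
    have h1 : w⁻¹ * m ∈ c.V := by
      rw [c.mem_V, Commute.mul_pow (Commute.inv_left (show Commute w m from (hwc m hm).symm)),
        inv_pow, hw2, inv_mul_cancel]
    rw [show m = w * (w⁻¹ * m) by group]
    exact (Commute.mul_right (show Commute x w from hwc x hx) (c.central _ h1 x)).eq
  exact hna fun x hx y hy => hcen y hy x hx

/-- A subgroup generated by two pieces is central modulo `V` on an element when both pieces are. -/
theorem comm_mem_V_of_sup {M M' H : Subgroup G} (hMH : M ⊔ M' = H) {d : G}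
    (h : ∀ m ∈ M, ⁅m, d⁆ ∈ c.V) (h' : ∀ m ∈ M', ⁅m, d⁆ ∈ c.V) {g : G} (hg : g ∈ H) :
    ⁅g, d⁆ ∈ c.V := by
  let X : Subgroup G :=
    { carrier := {g | ⁅g, d⁆ ∈ c.V}
      one_mem' := by
        show ⁅(1 : G), d⁆ ∈ c.V
        rw [commutatorElement_one_left]; exact c.V.one_mem
      mul_mem' := fun {a b} ha hb => by
        show ⁅a * b, d⁆ ∈ c.V
        rw [comm_mul_left, c.conjV hb]; exact c.V.mul_mem hb ha
      inv_mem' := fun {a} (ha : ⁅a, d⁆ ∈ c.V) => by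
        show ⁅a⁻¹, d⁆ ∈ c.V
        have e := comm_mul_left a⁻¹ a d
        rw [inv_mul_cancel, commutatorElement_one_left, c.conjV ha] at e
        rw [eq_inv_of_mul_eq_one_right e.symm]
        exact c.V.inv_mem ha }
  exact (hMH ▸ sup_le (α := Subgroup G) (c := X) h h' : H ≤ X) hg

include c in
/-- An invariant subgroup in `M` irreducible over `D` and outside a given one. -/
theorem exists_piece {M D X₁ : Subgroup G} (hM : Inv φ M) (hD : Inv φ D) (hX : Inv φ X₁)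
    (hDX : D ≤ X₁) (hXM : X₁ ≤ M) (hne : X₁ ≠ M) (hsq : SqIn M D) :
    ∃ P, Inv φ P ∧ D ≤ P ∧ P ≤ M ∧ ¬ P ≤ X₁ ∧ P ≠ D ∧ Nonempty (Weights φ P D) := by
  obtain ⟨Y, ⟨hYi, hYM, hYne⟩, hXY, hYmax⟩ :=
    exists_maximal (fun Y => Inv φ Y ∧ Y ≤ M ∧ Y ≠ M) (H₀ := X₁) ⟨hX, hXM, hne⟩
  obtain ⟨P, hPi, hDP, hPM, hYP, hYP'⟩ :=
    exists_complement c.odd hM hYi hD (hDX.trans hXY) hYM hsq
  have hPX : ¬ P ≤ X₁ := fun h => hYne (by rw [← hYP', sup_eq_left.2 (h.trans hXY)])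
  have hPD : P ≠ D := fun h => hPX (h ▸ hDX)
  refine ⟨P, hPi, hDP, hPM, hPX, hPD,
    exists_weights hPi hD hDP (fun a ha => hsq a (hPM ha)) hPD.symm fun Z hZi hDZ hZP => ?_⟩
  by_cases hZ : Z ⊔ Y = M
  · refine Or.inr (le_antisymm hZP fun p hp => ?_)
    obtain ⟨z, hz, y, hy, rfl⟩ := exists_mul_of_mem_sup
      (fun z hz y hy => conj_mem_of_sq hsq (hDX.trans hXY) hYM (hPM (hZP hz)) hy)
      (show p ∈ Z ⊔ Y from hZ.symm ▸ hPM hp)
    refine Z.mul_mem hz (hDZ (hYP ▸ ⟨hy, ?_⟩))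
    have := P.mul_mem (P.inv_mem (hZP hz)) hp
    rwa [inv_mul_cancel_left] at this
  · refine Or.inl (le_antisymm (fun z hz => ?_) hDZ)
    have hle := hYmax _ ⟨hZi.sup hYi, sup_le (hZP.trans hPM) hYM, hZ⟩ le_sup_right
    exact hYP ▸ ⟨hle ▸ mem_sup_left hz, hZP hz⟩

/-- A piece has exactly as many conjugate eigenvalues as `V`. -/
theorem piece_l {H D P : Subgroup G} (L : c.Lift H D) (hP : Inv φ P) (hDP : D ≤ P) (hPH : P ≤ H)
    (hPD : P ≠ D) (hPV : SqIn P c.V) (U : Weights φ P D) {g v : G} (hg : g ∈ P) (hv : v ∈ c.V)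
    (hne : L.e g v ≠ 1) : U.l = c.W.l := by
  obtain ⟨P₀, hP₀i, -, hP₀P, hDP₀, hDP₀'⟩ :=
    exists_complement c.odd hP L.invM c.invV L.hV hDP hPV
  have hU0 : ∀ a ∈ P₀, a ∈ D ↔ a ∈ c.V := fun a ha =>
    ⟨fun h => hDP₀ ▸ ⟨h, ha⟩, fun h => L.hV h⟩
  have hne0 : ∃ a ∈ P₀, a ∉ c.V := by
    by_contra h
    push Not at h
    exact hPD (by rw [← hDP₀', sup_eq_left.2 fun a ha => L.hV (h a ha)])
  exact Nat.dvd_antisymm (L.dvd_of_e_ne hPH U hg hv hne)
    (c.dvd_of_squares (U.restrict hP₀P hP₀i hU0 hne0) fun a ha => hPV a (hP₀P ha))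

/-- The step in the first index of the commutator coefficients. -/
theorem coeff_step {H D P Q : Subgroup G} (L : c.Lift H D) (hP : P ≤ H) (U : Weights φ P D)
    (U' : Weights φ Q D) (γ : G → G → G) (hγ : ∀ a ∈ P, ∀ b ∈ Q, γ a b ∈ c.V)
    (hfix : ∀ a ∈ P, ∀ b ∈ Q, L.e a (γ a b) = γ a b)
    {C : Fin c.W.l → Fin U.l → Fin U'.l → K}
    (hC : ∀ k, ∀ a ∈ P, ∀ b ∈ Q,
      c.W.y k (γ a b) = ∑ p, ∑ q, C k p q * U.y p a * U'.y q b)
    (p : Fin U.l) (q : Fin U'.l) (h0 : ∀ k, C k p q = 0) : ∀ k, C k (p + 1) q = 0 := by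
  obtain ⟨E, hE, -⟩ := L.exists_coeff hP U
  intro k
  have key : ∀ a ∈ P, ∑ p, ∑ p', (∑ i, E k p i * C i p' q) * U.y p a * U.y p' a =
      ∑ p, C k p q * U.y p a := by
    intro a ha
    have h1 : (fun q => ∑ p, ∑ p', (∑ i, E k p i * C i p' q) * U.y p a * U.y p' a) =
        fun q => ∑ p, C k p q * U.y p a := by
      refine U'.coeff_unique fun b hb => ?_
      calc ∑ q, (∑ p, ∑ p', (∑ i, E k p i * C i p' q) * U.y p a * U.y p' a) * U'.y q b
          = c.W.y k (L.e a (γ a b)) := by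
            rw [hE k a ha _ (hγ a ha b hb)]
            simp only [hC _ a ha b hb, sum_mul, mul_sum]
            rw [sum_comm]
            refine sum_congr rfl fun p _ => ?_
            conv_rhs => rw [sum_comm]
            rw [sum_comm]
            refine sum_congr rfl fun p' _ => ?_
            rw [sum_comm]
            exact sum_congr rfl fun i _ => sum_congr rfl fun q _ => by ring
        _ = c.W.y k (γ a b) := by rw [hfix a ha b hb]
        _ = ∑ q, (∑ p, C k p q * U.y p a) * U'.y q b := by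
            rw [hC k a ha b hb, sum_comm]
            exact sum_congr rfl fun q _ => by rw [sum_mul]
    exact congrFun h1 q
  have := (U.diag key).2 p
  rw [this]
  simp [h0]

/-- The spectrum of `V` is not a product of two conjugacy classes of full length. -/
theorem tensor_false {P Q N N' : Subgroup G} (U : Weights φ P N) (U' : Weights φ Q N')
    (hl : U.l = c.W.l) (hl' : U'.l = c.W.l)
    (hS : ∀ p q, ∃ k, U.w p * U'.w q = c.W.w k) : False := by
  have half : ∀ {A B NA NB : Subgroup G} (X : Weights φ A NA) (Y : Weights φ B NB),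
      X.l = c.W.l → (∀ p q, ∃ k, X.w p * Y.w q = c.W.w k) → ∀ p, ∃ i, X.w p = c.W.w i := by
    intro A B NA NB X Y hX h
    choose f hf using fun p => h p 0
    have hinj : Function.Injective f := fun p p' e =>
      X.w_inj (mul_right_cancel₀ (Y.w_ne 0) (by rw [hf p, hf p', e]))
    have hsurj : Function.Surjective f :=
      ((Fintype.bijective_iff_injective_and_card f).2
        ⟨hinj, by simp only [Fintype.card_fin]; exact hX⟩).2
    obtain ⟨k, hk⟩ := h 0 (0 + 1)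
    obtain ⟨p', rfl⟩ := hsurj k
    rw [← hf p', Y.w_succ, sq, ← mul_assoc] at hk
    have h2 : X.w p' = X.w 0 * Y.w 0 := (mul_right_cancel₀ (Y.w_ne 0) hk).symm
    rw [hf 0] at h2
    exact c.all_mem X h2
  obtain ⟨j, hj⟩ := half U' U hl' (fun q p => by
    obtain ⟨k, hk⟩ := hS p q
    exact ⟨k, by rw [mul_comm, hk]⟩) 0
  have hU := half U U' hl hS
  obtain ⟨p, i, hi, hij⟩ : ∃ p i, U.w p = c.W.w i ∧ i ≠ j := by
    by_contra h
    push Not at h
    have hall : ∀ p, U.w p = c.W.w j := fun p => by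
      obtain ⟨i, hi⟩ := hU p
      rw [hi, h p i hi]
    have h2 : 2 ≤ U.l := hl ▸ c.two_le
    exact absurd (congrArg Fin.val
      (U.w_inj ((hall ⟨0, by omega⟩).trans (hall ⟨1, by omega⟩).symm))) (by simp)
  obtain ⟨k, hk⟩ := hS p 0
  exact c.van i j k hij (by rw [← hi, ← hj, hk])

include c in
theorem good_aux : ∀ (N : ℕ) (H : Subgroup G), Nat.card H ≤ N → Inv φ H → Good H := by
  intro N
  induction N with
  | zero => intro H hH; exact absurd Nat.card_pos (by omega : ¬ 0 < Nat.card H)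
  | succ N ihN =>
  intro H hcard hH
  classical
  haveI := Fact.mk Nat.prime_two
  have ih : ∀ P, Inv φ P → P < H → Good P := by
    intro P hP hlt
    refine ihN P ?_ hP
    have h1 : (P : Set G).ncard < (H : Set G).ncard :=
      Set.ncard_lt_ncard (SetLike.coe_ssubset_coe.2 hlt) (Set.toFinite _)
    rw [← Nat.card_coe_set_eq, ← Nat.card_coe_set_eq] at h1
    change Nat.card P < Nat.card H at h1
    omega
  by_cases hab : ∀ x ∈ H, ∀ y ∈ H, x * y = y * x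
  · exact Or.inl hab
  have hfour : (∀ x ∈ H, x ^ 2 ∈ c.V) → Good H := fun h => Or.inr fun x hx => by
    rw [show 4 = 2 * 2 by norm_num, pow_mul]
    exact (c.mem_V _).1 (h x hx)
  obtain ⟨h₀, hh₀, hh₀1⟩ : ∃ h ∈ H, h ≠ 1 := by
    by_contra h
    push Not at h
    exact hab fun x hx y hy => by rw [h x hx, h y hy]
  have hVH : c.V ≤ H := c.V_le hH hh₀ hh₀1
  set D := closure ((fun x : G => x ^ 2) '' (H : Set G)) ⊔ c.V with hDdef
  have hDi : Inv φ D := (inv_closure_sq H hH).sup c.invV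
  have hDH : D ≤ H := sup_le ((closure_le _).2 (by
    rintro _ ⟨x, hx, rfl⟩; exact H.pow_mem hx 2)) hVH
  have hsqD : SqIn H D := fun x hx => mem_sup_left (subset_closure ⟨x, hx, rfl⟩)
  have hVD : c.V ≤ D := le_sup_right
  let Vs : Subgroup H := c.V.subgroupOf H
  haveI hVn : Vs.Normal := ⟨fun a ha g => mem_subgroupOf.2 (by
    simpa [c.conjV (mem_subgroupOf.1 ha)] using mem_subgroupOf.1 ha)⟩
  have hHp : IsPGroup 2 H := c.pG.to_subgroup H
  have hDne : D ≠ H := by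
    intro e
    rcases eq_top_or_exists_le_coatom Vs with h | ⟨X, hX, hVX⟩
    · refine hab fun x hx y hy => c.central y ?_ x
      exact mem_subgroupOf.1 (h ▸ mem_top (⟨y, hy⟩ : H))
    · have hle : D ≤ X.map H.subtype := sup_le ((closure_le _).2 (by
        rintro _ ⟨x, hx, rfl⟩
        exact ⟨⟨x, hx⟩ ^ 2, frattini_le_coatom hX (CfsgLib.PGroup.pow_mem_frattini hHp _), rfl⟩))
        fun v hv => ⟨⟨v, hVH hv⟩, hVX (mem_subgroupOf.2 hv), rfl⟩
      refine hX.1 (eq_top_iff.2 fun x _ => ?_)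
      obtain ⟨y, hy, hyx⟩ := hle (show (x : G) ∈ D by rw [e]; exact x.2)
      rwa [← Subtype.ext (a1 := y) (a2 := x) hyx]
  -- maximal invariant subgroups
  by_cases habmax : ∃ M, Inv φ M ∧ D ≤ M ∧ M ≤ H ∧ M ≠ H ∧
      (∀ X, Inv φ X → M ≤ X → X ≤ H → X = M ∨ X = H) ∧ ∀ x ∈ M, ∀ y ∈ M, x * y = y * x
  · obtain ⟨M, hMi, hDM, hMH, hMne, hirr, hMc⟩ := habmax
    obtain ⟨U⟩ := exists_weights hH hMi hMH (fun x hx => hDM (hsqD x hx)) hMne hirr
    exact c.abelianMax hH hMi hMH (hVD.trans hDM) hMc (fun x hx => hDM (hsqD x hx)) U ih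
  have hexp : ∀ X, Inv φ X → D ≤ X → X ≤ H → X ≠ H → SqIn X c.V := by
    intro X hXi hDX hXH hXne x hx
    obtain ⟨M, ⟨hMi, hMH, hMne⟩, hXM, hMmax⟩ :=
      exists_maximal (fun M => Inv φ M ∧ M ≤ H ∧ M ≠ H) (H₀ := X) ⟨hXi, hXH, hXne⟩
    rcases ih M hMi (lt_of_le_of_ne hMH hMne) with hMc | hM4
    · refine absurd ⟨M, hMi, hDX.trans hXM, hMH, hMne, fun Y hYi hMY hYH => ?_, hMc⟩ habmax
      by_cases hY : Y = H
      · exact Or.inr hY
      · exact Or.inl (hMmax Y ⟨hYi, hYH, hY⟩ hMY)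
    · rw [c.mem_V, ← pow_mul]; exact hM4 x (hXM hx)
  obtain ⟨M, ⟨hMi, hMH, hMne⟩, hDM, hMmax⟩ :=
    exists_maximal (fun M => Inv φ M ∧ M ≤ H ∧ M ≠ H) (H₀ := D) ⟨hDi, hDH, hDne⟩
  have hMV : SqIn M c.V := hexp M hMi hDM hMH hMne
  have hMna : ¬ ∀ x ∈ M, ∀ y ∈ M, x * y = y * x := fun h =>
    habmax ⟨M, hMi, hDM, hMH, hMne, fun Y hYi hMY hYH => by
      by_cases hY : Y = H
      · exact Or.inr hY
      · exact Or.inl (hMmax Y ⟨hYi, hYH, hY⟩ hMY), h⟩
  have hDneM : D ≠ M := by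
    intro e
    let q := QuotientGroup.mk' Vs
    haveI : (M.subgroupOf H).Normal := ⟨fun a ha g => mem_subgroupOf.2 (by
      simpa using conj_mem_of_sq hsqD hDM hMH g.2 (mem_subgroupOf.1 ha))⟩
    haveI : ((M.subgroupOf H).map q).Normal :=
      Subgroup.Normal.map inferInstance q (QuotientGroup.mk'_surjective Vs)
    have hne : (M.subgroupOf H).map q ≠ ⊥ := by
      intro h
      refine hMna fun x _ y hy => c.central y ?_ x
      refine mem_subgroupOf.1 ((QuotientGroup.eq_one_iff (N := Vs) ⟨y, hMH hy⟩).1 ?_)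
      have h' : q ⟨y, hMH hy⟩ ∈ (M.subgroupOf H).map q := ⟨_, mem_subgroupOf.2 hy, rfl⟩
      rwa [h, mem_bot] at h'
    obtain ⟨⟨t, ht⟩, ht1'⟩ := (Subgroup.ne_bot_iff_exists_ne_one).1
      (CfsgLib.PGroup.inf_center_ne_bot (hHp.to_quotient Vs) _ hne)
    have ht1 : t ≠ 1 := fun h => ht1' (Subtype.ext h)
    obtain ⟨⟨z, hz, rfl⟩, htc⟩ := ht
    have hzM : (z : G) ∈ M := mem_subgroupOf.1 hz
    have hzV : ∀ g ∈ H, ⁅(z : G), g⁆ ∈ c.V := by
      intro g hg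
      have h1 : q ⁅z, ⟨g, hg⟩⁆ = 1 := by
        rw [map_commutatorElement]
        exact commutatorElement_eq_one_iff_mul_comm.2 ((mem_center_iff.1 htc) _).symm
      exact mem_subgroupOf.1 ((QuotientGroup.eq_one_iff _).1 h1)
    have hle : D ≤ centralizer {(z : G)} := sup_le ((closure_le _).2 (by
      rintro _ ⟨g, hg, rfl⟩
      refine mem_centralizer_singleton_iff.2 (commutatorElement_eq_one_iff_mul_comm.1 ?_).symm
      rw [comm_sq_right, c.conjV (hzV g hg), c.mul_self (hzV g hg)]))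
      fun v hv => mem_centralizer_singleton_iff.2 (c.central v hv z).symm
    refine ht1 ((QuotientGroup.eq_one_iff _).2 (mem_subgroupOf.2 ((c.mem_V _).2 ?_)))
    exact c.center_sq_eq_one hMi hMV hMna hzM fun x hx =>
      mem_centralizer_singleton_iff.1 (hle (e.symm ▸ hx))
  obtain ⟨M', hM'i, hDM', hM'H, hMM', hMM''⟩ := exists_complement c.odd hH hMi hDi hDM hMH hsqD
  have hM'ne : M' ≠ H := fun e => hDneM (hMM'.symm.trans (inf_eq_left.2 (e.symm ▸ hMH)))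
  have hM'V : SqIn M' c.V := hexp M' hM'i hDM' hM'H hM'ne
  by_cases hall : ∀ x ∈ H, x ^ 2 ∈ c.V
  · exact hfour hall
  have hdV : ∀ g ∈ H, ∀ d ∈ D, ⁅g, d⁆ ∈ c.V := fun g hg d hd =>
    c.comm_mem_V_of_sup hMM'' (fun m hm => comm_mem_of_sq hMV hm (hDM hd))
      (fun m hm => comm_mem_of_sq hM'V hm (hDM' hd)) hg
  have hDc : ∀ a ∈ D, ∀ b ∈ D, a * b = b * a := by
    intro a ha b hb
    have hle : D ≤ centralizer {a} := sup_le ((closure_le _).2 (by
      rintro _ ⟨g, hg, rfl⟩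
      refine mem_centralizer_singleton_iff.2 (commutatorElement_eq_one_iff_mul_comm.1 ?_).symm
      have h1 : ⁅a, g⁆ ∈ c.V := by
        rw [← commutatorElement_inv g a]; exact c.V.inv_mem (hdV g hg a ha)
      rw [comm_sq_right, c.conjV h1, c.mul_self h1]))
      fun v hv => mem_centralizer_singleton_iff.2 (c.central v hv a).symm
    exact (mem_centralizer_singleton_iff.1 (hle hb)).symm
  obtain ⟨d₀, hd₀, hd₀V⟩ : ∃ d ∈ D, d ∉ c.V := by
    by_contra h
    push Not at h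
    exact hall fun x hx => h _ (hsqD x hx)
  have L : c.Lift H D := by
    refine ⟨hH, hDi, hDH, hVD, hDc, fun g hg m hm => conj_mem_of_sq hsqD le_rfl hDH hg hm, ?_⟩
    let S : Subgroup G :=
      { carrier := {v | ∃ w ∈ D, w ^ 2 = v}
        one_mem' := ⟨1, D.one_mem, one_pow 2⟩
        mul_mem' := by
          rintro _ _ ⟨a, ha, rfl⟩ ⟨b, hb, rfl⟩
          exact ⟨a * b, D.mul_mem ha hb, Commute.mul_pow (hDc a ha b hb) 2⟩
        inv_mem' := by
          rintro _ ⟨a, ha, rfl⟩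
          exact ⟨a⁻¹, D.inv_mem ha, inv_pow a 2⟩ }
    exact fun v hv => c.irred (X := S)
      (by rintro _ ⟨a, ha, rfl⟩; exact ⟨φ a, hDi a ha, (_root_.map_pow φ a 2).symm⟩)
      (x := d₀ ^ 2) ⟨d₀, hd₀, rfl⟩ (hMV d₀ (hDM hd₀)) (fun h => hd₀V ((c.mem_V _).2 h)) hv
  set γ : G → G → G := fun a b => ⁅a, b⁆ ^ 2 with hγdef
  have hDm : ∀ {a b : G}, a ∈ H → b ∈ H → ⁅a, b⁆ ∈ D := fun ha hb => comm_mem_of_sq hsqD ha hb
  have hγV : ∀ a ∈ H, ∀ b ∈ H, γ a b ∈ c.V := fun a ha b hb => hMV _ (hDM (hDm ha hb))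
  have hγs : ∀ a ∈ H, ∀ b ∈ H, γ b a = γ a b := fun a ha b hb => by
    show ⁅b, a⁆ ^ 2 = _
    rw [← commutatorElement_inv a b, inv_pow]; exact c.inv_eq (hγV a ha b hb)
  have hγl : ∀ a ∈ H, ∀ a' ∈ H, ∀ b ∈ H, γ (a * a') b = γ a b * γ a' b := by
    intro a ha a' ha' b hb
    show ⁅a * a', b⁆ ^ 2 = _
    rw [comm_mul_left, Commute.mul_pow (hDc _ (L.conj a ha _ (hDm ha' hb)) _ (hDm ha hb)), conj_pow,
      c.conjV (hγV a' ha' b hb)]
    exact (c.central _ (hγV a' ha' b hb) _).symm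
  have hγr : ∀ a ∈ H, ∀ b ∈ H, ∀ b' ∈ H, γ a (b * b') = γ a b * γ a b' := by
    intro a ha b hb b' hb'
    rw [← hγs a ha _ (H.mul_mem hb hb'), hγl b hb b' hb' a ha, hγs a ha b hb, hγs a ha b' hb']
  have hγD : ∀ a ∈ H, a ∈ D → ∀ b ∈ H, γ a b = 1 := by
    intro a _ haD b hb
    show ⁅a, b⁆ ^ 2 = 1
    rw [← commutatorElement_inv b a, inv_pow, (c.mem_V _).1 (hdV b hb a haD), inv_one]
  have hγD' : ∀ a ∈ H, ∀ b ∈ H, b ∈ D → γ a b = 1 := fun a ha b hb hbD => by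
    rw [← hγs a ha b hb]; exact hγD b hb hbD a ha
  have hγa : ∀ a ∈ H, ∀ b ∈ H, γ (φ a) (φ b) = φ (γ a b) := fun a _ b _ => by
    show ⁅φ a, φ b⁆ ^ 2 = φ (⁅a, b⁆ ^ 2)
    rw [_root_.map_pow, map_comm]
  have hfix : ∀ a ∈ H, a ^ 2 ∈ c.V → ∀ b ∈ H, L.e a (γ a b) = γ a b := by
    intro a ha ha2 b hb
    have h1 := comm_sq_left a b
    rw [c.comm_V' ha2] at h1
    rw [← L.e_eq ha (hDm ha hb) (hγV a ha b hb), eq_inv_of_mul_eq_one_left h1.symm]
    exact c.inv_eq (hγV a ha b hb)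
  -- the commutators between the two maximal subgroups
  let X₁ : Subgroup G :=
    { carrier := {a | a ∈ M ∧ ∀ b ∈ M', γ a b = 1}
      one_mem' := ⟨M.one_mem, fun b hb => hγD 1 H.one_mem D.one_mem b (hM'H hb)⟩
      mul_mem' := fun {a a'} ha ha' => ⟨M.mul_mem ha.1 ha'.1, fun b hb => by
        rw [hγl a (hMH ha.1) a' (hMH ha'.1) b (hM'H hb), ha.2 b hb, ha'.2 b hb, one_mul]⟩
      inv_mem' := fun {a} ha => ⟨M.inv_mem ha.1, fun b hb => by
        have e := hγl _ (H.inv_mem (hMH ha.1)) a (hMH ha.1) b (hM'H hb)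
        rw [inv_mul_cancel, hγD 1 H.one_mem D.one_mem b (hM'H hb), ha.2 b hb, mul_one] at e
        exact e.symm⟩ }
  by_cases hX₁ : X₁ = M
  · refine hfour fun x hx => ?_
    have hcross : ∀ a ∈ M, ∀ b ∈ M', ⁅a, b⁆ ∈ c.V := fun a ha b hb =>
      (c.mem_V _).2 ((hX₁.symm ▸ ha : a ∈ X₁).2 b hb)
    have hcomm : ∀ g ∈ H, ∀ g' ∈ H, ⁅g, g'⁆ ∈ c.V := by
      intro g hg g' hg'
      refine c.comm_mem_V_of_sup hMM'' (fun m hm => ?_) (fun m hm => ?_) hg <;>
        rw [← commutatorElement_inv g' m] <;> refine c.V.inv_mem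
          (c.comm_mem_V_of_sup hMM'' (fun n hn => ?_) (fun n hn => ?_) hg')
      · exact comm_mem_of_sq hMV hn hm
      · rw [← commutatorElement_inv m n]; exact c.V.inv_mem (hcross m hm n hn)
      · exact hcross n hn m hm
      · exact comm_mem_of_sq hM'V hn hm
    let S : Subgroup G :=
      { carrier := {x | x ∈ H ∧ x ^ 2 ∈ c.V}
        one_mem' := ⟨H.one_mem, by rw [one_pow]; exact c.V.one_mem⟩
        mul_mem' := fun {a b} ha hb => ⟨H.mul_mem ha.1 hb.1, by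
          rw [mul_sq]
          exact c.V.mul_mem (c.V.mul_mem ha.2 (hcomm _ (H.inv_mem ha.1) _ hb.1)) hb.2⟩
        inv_mem' := fun {a} ha => ⟨H.inv_mem ha.1, by rw [inv_pow]; exact c.V.inv_mem ha.2⟩ }
    exact (hMM'' ▸ sup_le (α := Subgroup G) (c := S) (fun m hm => ⟨hMH hm, hMV m hm⟩)
      (fun m hm => ⟨hM'H hm, hM'V m hm⟩) : H ≤ S) hx |>.2
  exfalso
  have hX₁i : Inv φ X₁ := fun a ha => ⟨hMi a ha.1, fun b hb => by
    have e := hγa a (hMH ha.1) _ (hM'H (hM'i.symm_mem hb))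
    rw [ha.2 _ (hM'i.symm_mem hb), MulEquiv.apply_symm_apply, _root_.map_one] at e
    exact e⟩
  obtain ⟨P, hPi, hDP, hPM, hPX, hPD, ⟨U⟩⟩ := c.exists_piece hMi hDi hX₁i
    (fun d hd => ⟨hDM hd, fun b hb => hγD d (hDH hd) hd b (hM'H hb)⟩) (fun a ha => ha.1) hX₁
    (fun a ha => hsqD a (hMH ha))
  have hPH : P ≤ H := hPM.trans hMH
  let X₂ : Subgroup G :=
    { carrier := {b | b ∈ M' ∧ ∀ a ∈ P, γ a b = 1}
      one_mem' := ⟨M'.one_mem, fun a ha => hγD' a (hPH ha) 1 H.one_mem D.one_mem⟩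
      mul_mem' := fun {b b'} hb hb' => ⟨M'.mul_mem hb.1 hb'.1, fun a ha => by
        rw [hγr a (hPH ha) b (hM'H hb.1) b' (hM'H hb'.1), hb.2 a ha, hb'.2 a ha, one_mul]⟩
      inv_mem' := fun {b} hb => ⟨M'.inv_mem hb.1, fun a ha => by
        have e := hγr a (hPH ha) _ (H.inv_mem (hM'H hb.1)) b (hM'H hb.1)
        rw [inv_mul_cancel, hγD' a (hPH ha) 1 H.one_mem D.one_mem, hb.2 a ha, mul_one] at e
        exact e.symm⟩ }
  have hX₂i : Inv φ X₂ := fun b hb => ⟨hM'i b hb.1, fun a ha => by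
    have e := hγa _ (hPH (hPi.symm_mem ha)) b (hM'H hb.1)
    rw [hb.2 _ (hPi.symm_mem ha), MulEquiv.apply_symm_apply, _root_.map_one] at e
    exact e⟩
  have hX₂ : X₂ ≠ M' := by
    intro e
    exact hPX fun a ha => ⟨hPM ha, fun b hb => (e.symm ▸ hb : b ∈ X₂).2 a ha⟩
  obtain ⟨Q, hQi, hDQ, hQM, hQX, hQD, ⟨U'⟩⟩ := c.exists_piece hM'i hDi hX₂i
    (fun d hd => ⟨hDM' hd, fun a ha => hγD' a (hPH ha) d (hDH hd) hd⟩) (fun a ha => ha.1) hX₂
    (fun a ha => hsqD a (hM'H ha))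
  have hQH : Q ≤ H := hQM.trans hM'H
  obtain ⟨b₁, hb₁, hb₁X⟩ := SetLike.not_le_iff_exists.1 hQX
  obtain ⟨a₁, ha₁, hne⟩ : ∃ a ∈ P, γ a b₁ ≠ 1 := by
    by_contra h
    push Not at h
    exact hb₁X ⟨hQM hb₁, h⟩
  have hfP : ∀ a ∈ P, ∀ b ∈ Q, L.e a (γ a b) = γ a b := fun a ha b hb =>
    hfix a (hPH ha) (hMV a (hPM ha)) b (hQH hb)
  have hfQ : ∀ b ∈ Q, ∀ a ∈ P, L.e b (γ a b) = γ a b := fun b hb a ha => by
    rw [← hγs a (hPH ha) b (hQH hb)]
    exact hfix b (hQH hb) (hM'V b (hQM hb)) a (hPH ha)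
  have hv := hγV a₁ (hPH ha₁) b₁ (hQH hb₁)
  have hl : U.l = c.W.l := c.piece_l L hPi hDP hPH hPD (fun a ha => hMV a (hPM ha)) U ha₁ hv
    (by rw [hfP a₁ ha₁ b₁ hb₁]; exact hne)
  have hl' : U'.l = c.W.l := c.piece_l L hQi hDQ hQH hQD (fun a ha => hM'V a (hQM ha)) U' hb₁ hv
    (by rw [hfQ b₁ hb₁ a₁ ha₁]; exact hne)
  choose C hC using fun k => U.bil_span U' (fun a b => c.W.y k (γ a b))
    (fun a ha a' ha' b hb => by
      rw [hγl a (hPH ha) a' (hPH ha') b (hQH hb),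
        c.W.y_mul k (hγV _ (hPH ha) _ (hQH hb)) (hγV _ (hPH ha') _ (hQH hb))])
    (fun a ha b hb b' hb' => by
      rw [hγr a (hPH ha) b (hQH hb) b' (hQH hb'),
        c.W.y_mul k (hγV _ (hPH ha) _ (hQH hb)) (hγV _ (hPH ha) _ (hQH hb'))])
    (fun a ha haD b hb => by rw [hγD a (hPH ha) haD b (hQH hb)]; exact c.W.one_y k)
    (fun a ha b hb hbD => by rw [hγD' a (hPH ha) b (hQH hb) hbD]; exact c.W.one_y k)
  have step₁ : ∀ p q, (∀ k, C k p q = 0) → ∀ k, C k (p + 1) q = 0 :=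
    c.coeff_step L hPH U U' γ (fun a ha b hb => hγV a (hPH ha) b (hQH hb)) hfP hC
  have step₂ : ∀ q p, (∀ k, C k p q = 0) → ∀ k, C k p (q + 1) = 0 := fun q p h =>
    c.coeff_step L hQH U' U (fun b a => γ a b) (fun b hb a ha => hγV a (hPH ha) b (hQH hb))
      hfQ (C := fun k q p => C k p q) (fun k b hb a ha => by
        rw [hC k a ha b hb, sum_comm]
        exact sum_congr rfl fun q _ => sum_congr rfl fun p _ => by ring) q p h
  refine c.tensor_false U U' hl hl' fun p q => ?_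
  obtain ⟨k, hk⟩ : ∃ k, C k p q ≠ 0 := by
    by_contra h
    push Not at h
    refine hne (c.eq_one_of_y hv 0 ?_)
    have h1 : ∀ p', ∀ k, C k p' q = 0 :=
      forall_of_succ (P := fun p' => ∀ k, C k p' q = 0) (p₀ := p) h fun p' => step₁ p' q
    have h2 : ∀ p' q' k, C k p' q' = 0 := fun p' =>
      forall_of_succ (P := fun q' => ∀ k, C k p' q' = 0) (p₀ := q) (h1 p') fun q' => step₂ q' p'
    rw [hC 0 a₁ ha₁ b₁ hb₁]
    simp [h2]
  exact ⟨k, U.bil_eqv U' (hC k) (fun a ha b hb => by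
    rw [hγa a (hPH ha) b (hQH hb), c.W.y_act k (hγV a (hPH ha) b (hQH hb))]) p q hk⟩

include c in
/-- A `2`-group with generic eigenvalues on its central involutions is abelian or of exponent four. -/
theorem exp_four (hna : ¬ ∀ x y : G, x * y = y * x) (x : G) : x ^ 4 = 1 := by
  rcases c.good_aux (Nat.card G) ⊤ (Subgroup.card_top (G := G)).le (fun a _ => mem_top _) with h | h
  · exact absurd (fun x y => h x (mem_top x) y (mem_top y)) hna
  · exact h x (mem_top x)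

end Ctx

end CfsgLib.PGroup.SuzukiExp
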