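import Mathlib
import Cfsg.Agent.S3360
import Cfsg.Agent.S3774
import Cfsg.Agent.Lib.PGroup.Suzuki.Arith
import Cfsg.Agent.Lib.PGroup.Suzuki.Main

/-!
A solvable group of automorphisms transitive on the involutions supplies the standing hypotheses;
the consequences for the structure of the group.
-/

set_option autoImplicit false
set_option linter.style.haveILetI false

namespace CfsgLib.PGroup.SuzukiExp

/-- In a solvable transitive semilinear group the scalar part is generated by one element of order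
`m` with `(2 ^ n - 1) / m` dividing `n`. -/
theorem exists_scalar {G : Type*} [Group G] [Finite G] {F : Type} [Field F] [Fintype F] {n : ℕ}
    (hn : Fintype.card F = 2 ^ n) (hn0 : n ≠ 0) [MulAction G F]
    (hsl : ∀ g : G, ∃ (a : F) (σ : F ≃+* F), ∀ x : F, g • x = a * σ x)
    (hfaith : ∀ g : G, (∀ x : F, g • x = x) → g = 1)
    (htr : ∀ x y : F, x ≠ 0 → y ≠ 0 → ∃ g : G, g • x = y) :
    ∃ (g : G) (a : Fˣ) (d : ℕ), (∀ x : F, g • x = a * x) ∧ orderOf a * d = 2 ^ n - 1 ∧ d ∣ n := by
  classical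
  haveI := Fintype.ofFinite G
  haveI : Fact (Nat.Prime 2) := ⟨Nat.prime_two⟩
  haveI : CharP F 2 := charP_of_card_eq_prime_pow hn
  letI : Algebra (ZMod 2) F := ZMod.algebra F 2
  choose a σ hσ using hsl
  have ha : ∀ g, a g ≠ 0 := fun g h => by
    have h1 : g • (1 : F) = g • (0 : F) := by rw [hσ, hσ, h, zero_mul, zero_mul]
    exact one_ne_zero (MulAction.injective g h1)
  have huniq : ∀ (g : G) (b : F) (τ : F ≃+* F), (∀ x, g • x = b * τ x) → a g = b ∧ σ g = τ := by
    intro g b τ h
    have h1 := (hσ g 1).symm.trans (h 1)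
    rw [map_one, map_one, mul_one, mul_one] at h1
    refine ⟨h1, RingEquiv.ext fun x => mul_left_cancel₀ (ha g) ?_⟩
    rw [← hσ, h, h1]
  let alg : (F ≃+* F) → (F ≃ₐ[ZMod 2] F) := fun τ => AlgEquiv.ofRingEquiv (f := τ) fun c =>
    RingHom.congr_fun (Subsingleton.elim ((τ : F →+* F).comp (algebraMap (ZMod 2) F))
      (algebraMap (ZMod 2) F)) c
  have halg : ∀ (τ : F ≃+* F) (x : F), alg τ x = τ x := fun _ _ => rfl
  let π : G →* (F ≃ₐ[ZMod 2] F) :=
    { toFun := fun g => alg (σ g)
      map_one' := by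
        have h := (huniq 1 1 (RingEquiv.refl F) fun x => by
          rw [one_smul, one_mul]; rfl).2
        exact AlgEquiv.ext fun x => by rw [halg, h]; rfl
      map_mul' := fun g g' => by
        have h := (huniq (g * g') (a g * σ g (a g')) ((σ g').trans (σ g)) fun x => by
          rw [mul_smul, hσ, hσ, map_mul, mul_assoc]; rfl).2
        exact AlgEquiv.ext fun x => by rw [halg, h]; rfl }
  have hker : ∀ g ∈ π.ker, ∀ x : F, g • x = a g * x := fun g hg x => by
    rw [hσ, ← halg]
    rw [show alg (σ g) = 1 from MonoidHom.mem_ker.1 hg]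
    rfl
  let f : π.ker →* F :=
    { toFun := fun g => a g.1
      map_one' := (huniq 1 1 (RingEquiv.refl F) fun x => by rw [one_smul, one_mul]; rfl).1
      map_mul' := fun g g' => by
        have h := hσ ((g : G) * g') 1
        rw [mul_smul, hker g g.2, hker g' g'.2, mul_one, map_one, mul_one] at h
        exact h.symm }
  have hf : Function.Injective f := by
    intro g g' h
    refine Subtype.ext ?_
    have h2 : (g : G)⁻¹ * g' = 1 := hfaith _ fun x => by
      rw [mul_smul, hker g' g'.2, show a g'.1 = a g.1 from h.symm, ← hker g g.2, inv_smul_smul]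
    exact inv_mul_eq_one.1 h2
  haveI : IsCyclic π.ker := isCyclic_of_injective_ringHom f hf
  obtain ⟨g₀, hg₀⟩ := IsCyclic.exists_generator (α := π.ker)
  let u : Fˣ := Units.mk0 (a g₀.1) (ha _)
  have hord : orderOf u = Nat.card π.ker := by
    rw [← orderOf_units, ← orderOf_eq_card_of_forall_mem_zpowers hg₀]
    exact orderOf_injective f hf g₀
  have hdvd : orderOf u ∣ 2 ^ n - 1 := by
    rw [← hn, ← Fintype.card_units]
    exact orderOf_dvd_card
  obtain ⟨d, hd⟩ := hdvd
  refine ⟨g₀, u, d, fun x => hker g₀ g₀.2 x, hd.symm, ?_⟩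
  have h1 : Nat.card G = Nat.card (G ⧸ π.ker) * orderOf u := by
    rw [hord]; exact Subgroup.card_eq_card_quotient_mul_card_subgroup π.ker
  have h2 : Nat.card (G ⧸ π.ker) ∣ n := by
    rw [Nat.card_congr (QuotientGroup.quotientKerEquivRange π).toEquiv]
    refine (Subgroup.card_subgroup_dvd_card π.range).trans (dvd_of_eq ?_)
    rw [IsGalois.card_aut_eq_finrank]
    have h3 := Module.natCard_eq_pow_finrank (K := ZMod 2) (V := F)
    rw [Nat.card_eq_fintype_card, hn, Nat.card_zmod] at h3
    exact (Nat.pow_right_injective le_rfl h3).symm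
  have h3 : 2 ^ n - 1 ∣ Nat.card G := by
    have horb : MulAction.orbit G (1 : F) = {x : F | x ≠ 0} := by
      ext x
      constructor
      · rintro ⟨g, rfl⟩
        show g • (1 : F) ≠ 0
        rw [hσ, map_one, mul_one]; exact ha g
      · exact fun hx => htr 1 x one_ne_zero hx
    have e : 2 ^ n - 1 = (MulAction.stabilizer G (1 : F)).index := by
      rw [Subgroup.index, ← Nat.card_congr (MulAction.orbitEquivQuotientStabilizer G (1 : F)), horb,
        Nat.card_coe_set_eq, show {x : F | x ≠ 0} = ({0} : Set F)ᶜ by ext; simp, Set.ncard_compl,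
        Set.ncard_singleton, Nat.card_eq_fintype_card, hn]
    rw [e]
    exact Subgroup.index_dvd_card _
  rw [h1, hd, mul_comm (Nat.card (G ⧸ π.ker))] at h3
  exact (Nat.dvd_of_mul_dvd_mul_left (orderOf_pos u) h3).trans h2

variable {G : Type*} [Group G] [Finite G]

open scoped Classical in
theorem exists_ctx (hG : IsPGroup 2 G)
    (htwo : ∃ x y : G, x ≠ y ∧ x ≠ 1 ∧ x ^ 2 = 1 ∧ y ≠ 1 ∧ y ^ 2 = 1)
    (Y : Subgroup (MulAut G)) (hsol : Group.IsSolvable Y)
    (htr : ∀ x y : G, x ≠ 1 → x ^ 2 = 1 → y ≠ 1 → y ^ 2 = 1 → ∃ a ∈ Y, a x = y) :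
    ∃ φ : MulAut G, Nonempty (Ctx φ) := by
  haveI : Fact (Nat.Prime 2) := ⟨Nat.prime_two⟩
  obtain ⟨x₀, y₀, hxy, hx1, hx2, hy1, hy2⟩ := htwo
  haveI : Nontrivial G := ⟨⟨x₀, 1, hx1⟩⟩
  haveI : Finite (MulAut G) := Finite.of_injective _ DFunLike.coe_injective
  have hcen : ∀ x : G, x ^ 2 = 1 → x ∈ Subgroup.center G :=
    (Cfsg.Agent.S3774.result hG fun x y hx hx' hy hy' =>
      let ⟨a, _, ha⟩ := htr x y hx hx' hy hy'
      ⟨a, ha⟩).1
  let V : Subgroup G :=
    { carrier := {x | x ^ 2 = 1}
      one_mem' := one_pow 2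
      mul_mem' := fun {a b} (ha : a ^ 2 = 1) (hb : b ^ 2 = 1) => by
        show (a * b) ^ 2 = 1
        rw [(show Commute a b from Subgroup.mem_center_iff.1 (hcen b hb) a).mul_pow, ha, hb, one_mul]
      inv_mem' := fun {a} (ha : a ^ 2 = 1) => by
        show a⁻¹ ^ 2 = 1
        rw [inv_pow, ha, inv_one] }
  have hVc : ∀ v ∈ V, ∀ g : G, g * v = v * g := fun v hv g => Subgroup.mem_center_iff.1 (hcen v hv) g
  letI : CommGroup V := { (inferInstance : Group V) with
    mul_comm := fun a b => Subtype.ext (hVc b b.2 a.1) }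
  letI : Module (ZMod 2) (Additive V) := AddCommGroup.zmodModule fun v => by
    refine Additive.toMul.injective (Subtype.ext ?_)
    rw [toMul_nsmul, toMul_zero]
    show (v.toMul : G) ^ 2 = 1
    exact (v.toMul).2
  have hinv : ∀ (a : MulAut G), ∀ v ∈ V, a v ∈ V := fun a v (hv : v ^ 2 = 1) => by
    show a v ^ 2 = 1
    rw [← map_pow, hv, map_one]
  let res : MulAut G → (Additive V ≃+ Additive V) := fun a =>
    { toFun := fun v => Additive.ofMul ⟨a v.toMul.1, hinv a _ v.toMul.2⟩
      invFun := fun v => Additive.ofMul ⟨a⁻¹ v.toMul.1, hinv a⁻¹ _ v.toMul.2⟩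
      left_inv := fun v => Additive.toMul.injective (Subtype.ext (a.symm_apply_apply _))
      right_inv := fun v => Additive.toMul.injective (Subtype.ext (a.apply_symm_apply _))
      map_add' := fun v w => Additive.toMul.injective (Subtype.ext (map_mul a _ _)) }
  let ρ₀ : Y →* (Additive V ≃ₗ[ZMod 2] Additive V) :=
    { toFun := fun a => { res a with map_smul' := fun c v => ZMod.map_smul (res a) c v }
      map_one' := LinearEquiv.ext fun v => rfl
      map_mul' := fun a b => LinearEquiv.ext fun v => rfl }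
  have hρ₀ : ∀ (a : Y) (v : V),
      (ρ₀ a (Additive.ofMul v)).toMul.1 = (a : MulAut G) v.1 := fun a v => rfl
  have hρtr : ∀ v w : Additive V, v ≠ 0 → w ≠ 0 → ∃ g : ρ₀.range, ρ₀.range.subtype g v = w := by
    intro v w hv hw
    obtain ⟨a, haY, ha⟩ := htr v.toMul.1 w.toMul.1
      (fun h => hv (Additive.toMul.injective (Subtype.ext h))) v.toMul.2
      (fun h => hw (Additive.toMul.injective (Subtype.ext h))) w.toMul.2
    exact ⟨⟨ρ₀ ⟨a, haY⟩, _, rfl⟩, Additive.toMul.injective (Subtype.ext ha)⟩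
  haveI := hsol
  have hRsol : Group.IsSolvable ρ₀.range :=
    Group.isSolvable_of_surjective ρ₀.rangeRestrict_surjective
  haveI : Nontrivial (Additive V) := ⟨⟨Additive.ofMul ⟨x₀, hx2⟩, 0, fun h =>
    hx1 (congrArg (fun v : Additive V => v.toMul.1) h)⟩⟩
  haveI : Finite ρ₀.range := Finite.of_surjective _ ρ₀.rangeRestrict_surjective
  obtain ⟨n, hn⟩ := IsPGroup.iff_card.1 (hG.to_subgroup V)
  have hn2 : 2 ≤ n := by
    have h3 : 3 ≤ Nat.card V := by
      haveI := Fintype.ofFinite V
      rw [Nat.card_eq_fintype_card]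
      refine le_trans (le_of_eq ?_) (Finset.card_le_univ {(1 : V), ⟨x₀, hx2⟩, ⟨y₀, hy2⟩})
      rw [Finset.card_insert_of_notMem, Finset.card_insert_of_notMem, Finset.card_singleton]
      · simpa [Subtype.ext_iff] using hxy
      · simp [Subtype.ext_iff, Ne.symm hx1, Ne.symm hy1]
    by_contra h
    rw [hn] at h3
    interval_cases n <;> omega
  have hcardA : Nat.card (Additive V) = 2 ^ n := (Nat.card_congr Additive.toMul).trans hn
  rcases Cfsg.Agent.S3360.result 2 hRsol ρ₀.range.subtype Subtype.val_injective hρtr with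
    ⟨F, instF, instFin, e, he⟩ | hbad
  swap
  · exfalso
    rw [hcardA] at hbad
    have h2 : 2 ∣ 2 ^ n := dvd_pow_self 2 (by omega)
    simp only [Set.mem_insert_iff, Set.mem_singleton_iff] at hbad
    omega
  letI := instF
  letI := instFin
  have hF : Fintype.card F = 2 ^ n := by
    rw [← Nat.card_eq_fintype_card, ← Nat.card_congr e.toEquiv, hcardA]
  letI act : MulAction ρ₀.range F :=
    { smul := fun g x => e (ρ₀.range.subtype g (e.symm x))
      one_smul := fun x => by
        show e (ρ₀.range.subtype 1 (e.symm x)) = x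
        rw [map_one]; exact e.apply_symm_apply x
      mul_smul := fun g h x => by
        show e (ρ₀.range.subtype (g * h) (e.symm x)) =
          e (ρ₀.range.subtype g (e.symm (e (ρ₀.range.subtype h (e.symm x)))))
        rw [e.symm_apply_apply, map_mul]; rfl }
  have hsmul : ∀ (g : ρ₀.range) (x : F), g • x = e (ρ₀.range.subtype g (e.symm x)) := fun _ _ => rfl
  obtain ⟨g₁, u, d, hu, hud, hdn⟩ := exists_scalar (G := ρ₀.range) hF (by omega)
    (fun g => by
      obtain ⟨a, σ, h⟩ := he g
      exact ⟨a, σ, fun x => by rw [hsmul, h, e.apply_symm_apply]⟩)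
    (fun g h => by
      refine Subtype.ext (LinearEquiv.ext fun v => e.injective ?_)
      have h1 := h (e v)
      rwa [hsmul, e.symm_apply_apply] at h1)
    (fun x y hx hy => by
      obtain ⟨g, hg⟩ := hρtr (e.symm x) (e.symm y) (by simpa using hx) (by simpa using hy)
      exact ⟨g, by rw [hsmul, hg, e.apply_symm_apply]⟩)
  obtain ⟨y₁, hy₁⟩ := g₁.2
  obtain ⟨t, o, ho, hord⟩ :=
    Nat.exists_eq_two_pow_mul_odd (orderOf_pos (y₁ : MulAut G)).ne'
  set φ : MulAut G := (y₁ : MulAut G) ^ 2 ^ t with hφ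
  have hodd : Odd (orderOf φ) := by
    rw [hφ, orderOf_pow' _ (pow_ne_zero _ two_ne_zero), hord,
      Nat.gcd_eq_right (dvd_mul_right _ _), Nat.mul_div_cancel_left _ (Nat.two_pow_pos t)]
    exact ho
  set m := orderOf u with hm
  have hm0 : Odd m := by
    have h1 := Nat.one_le_two_pow (n := n)
    have : Odd (2 ^ n - 1) := Nat.Even.sub_odd h1 (Nat.even_pow.2 ⟨even_two, by omega⟩) odd_one
    rw [← hud] at this
    exact (Nat.odd_mul.1 this).1
  set u' := u ^ 2 ^ t with hu'
  have hu'm : orderOf u' = m :=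
    Nat.Coprime.orderOf_pow ((hm0.coprime_two_right).pow_right _)
  -- multiplication by `u'` on the involutions
  have hstep : ∀ v : Additive V, e (Additive.ofMul ⟨(y₁ : MulAut G) v.toMul.1,
      hinv _ _ v.toMul.2⟩) = u * e v := fun v => by
    have h := hu (e v)
    rw [hsmul, e.symm_apply_apply] at h
    rw [← h]
    congr 1
    have h1 : ρ₀.range.subtype g₁ v = ρ₀ y₁ v := by rw [hy₁]; rfl
    rw [h1]
    exact Additive.toMul.injective (Subtype.ext rfl)
  have hpow : ∀ (k : ℕ) (v : Additive V), e (Additive.ofMul ⟨((y₁ : MulAut G) ^ k) v.toMul.1,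
      hinv _ _ v.toMul.2⟩) = ((u ^ k : Fˣ) : F) * e v := by
    intro k
    induction k with
    | zero =>
      intro v
      rw [pow_zero u, Units.val_one, one_mul]
      rfl
    | succ k ih =>
      intro v
      have h1 := hstep (Additive.ofMul ⟨((y₁ : MulAut G) ^ k) v.toMul.1, hinv _ _ v.toMul.2⟩)
      rw [ih v, ← mul_assoc, ← Units.val_mul, ← pow_succ'] at h1
      rw [← h1]
      congr 3
      rw [pow_succ']; rfl
  haveI : CharP F 2 := charP_of_card_eq_prime_pow hF
  letI : Algebra (ZMod 2) F := ZMod.algebra F 2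
  let ι : F →ₐ[ZMod 2] K := IsAlgClosed.lift
  let ξ : G → K := fun g => if h : g ∈ V then ι (e (Additive.ofMul ⟨g, h⟩)) else 0
  have hξ : ∀ (g : G) (h : g ∈ V), ξ g = ι (e (Additive.ofMul ⟨g, h⟩)) := fun g h => dif_pos h
  have hN : ∀ i j k, i < n → j < n → k < n → i ≠ j →
      ((u' : F)) ^ 2 ^ i * (u' : F) ^ 2 ^ j ≠ (u' : F) ^ 2 ^ k := by
    intro i j k hi hj hk hij h
    rw [← pow_add, ← Units.val_pow_eq_pow_val, ← Units.val_pow_eq_pow_val, ← Units.ext_iff,
      pow_eq_pow_iff_modEq, hu'm] at h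
    exact not_modEq hn2 hud hdn hi hj hk hij h
  have hinj : ∀ i < n, ∀ j < n, (ι (u' : F)) ^ 2 ^ i = (ι (u' : F)) ^ 2 ^ j → i = j := by
    intro i hi j hj h
    rw [← map_pow, ← map_pow] at h
    have h' := ι.toRingHom.injective h
    by_contra hij
    have hper : (u' : F) ^ 2 ^ ((i + 1) % n) = (u' : F) ^ 2 ^ (i + 1) := by
      conv_rhs => rw [← Nat.div_add_mod (i + 1) n, pow_add, pow_mul]
      congr 1
      generalize (i + 1) / n = q
      induction q with
      | zero => simp
      | succ q ih =>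
        rw [Nat.mul_succ, pow_add, pow_mul, ← ih, ← hF, FiniteField.pow_card]
    refine hN i j ((i + 1) % n) hi hj (Nat.mod_lt _ (by omega)) hij ?_
    rw [← h', hper, pow_succ 2 i, pow_mul, sq]
  refine ⟨φ, ⟨{
    pG := hG, odd := hodd, V := V, mem_V := fun x => Iff.rfl, central := hVc,
    W := {
      l := n, pos := by omega, η := ι (u' : F), ξ := ξ, inv := fun v hv => hinv φ v hv,
      map_mul := fun a ha b hb => by
        rw [hξ a ha, hξ b hb, hξ _ (V.mul_mem ha hb), ← map_add, ← map_add]; rfl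
      zero_iff := fun a ha => by
        rw [hξ a ha, map_eq_zero, map_eq_zero_iff _ e.injective,
          Subgroup.mem_bot]
        exact ⟨fun h => congrArg (fun v : Additive V => v.toMul.1) h,
          fun h => Additive.toMul.injective (Subtype.ext h)⟩
      act := fun a ha => by
        rw [hξ a ha, hξ _ (hinv φ a ha), ← map_mul]
        congr 1
        exact hpow (2 ^ t) (Additive.ofMul ⟨a, ha⟩)
      val := fun a ha => by
        rw [hξ a ha, ← map_pow, ← hF, FiniteField.pow_card]
      η_per := by rw [← map_pow, ← hF, FiniteField.pow_card]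
      η_inj := hinj
      η_ne := by
        rw [Ne, map_eq_zero]; exact u'.ne_zero
      exists_ne := ⟨x₀, hx2, fun h => hx1 (Subgroup.mem_bot.1 h)⟩ },
    two_le := hn2,
    van := fun i j k hij h => by
      refine hN i j k i.2 j.2 k.2 (fun he => hij (Fin.ext he)) (ι.toRingHom.injective ?_)
      simpa [Weights.w] using h }⟩⟩

end CfsgLib.PGroup.SuzukiExp
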