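import Mathlib
import Cfsg.Agent.Lib.PGroup.Suzuki.Transitive

/-!
Suzuki `2`-groups are special, with the centre consisting of the involutions and `1`.
-/

set_option autoImplicit false
set_option linter.style.haveILetI false

namespace CfsgLib.PGroup.SuzukiExp

open Subgroup
open scoped commutatorElement

variable {G : Type*} [Group G] [Finite G] {φ : MulAut G}

theorem Ctx.special (c : Ctx φ) (hna : ¬ ∀ x y : G, x * y = y * x) :
    _root_.commutator G = frattini G ∧ frattini G = center G ∧
      (∀ x : G, x ∈ center G ↔ x ^ 2 = 1) ∧ ∀ x : G, x ^ 4 = 1 := by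
  haveI := Fact.mk Nat.prime_two
  have h4 := c.exp_four hna
  have hsq : SqIn (⊤ : Subgroup G) c.V := fun x _ => by rw [c.mem_V, ← pow_mul]; exact h4 x
  have hna' : ¬ ∀ x ∈ (⊤ : Subgroup G), ∀ y ∈ (⊤ : Subgroup G), x * y = y * x :=
    fun h => hna fun x y => h x (mem_top x) y (mem_top y)
  have hZ : ∀ x : G, x ∈ center G ↔ x ^ 2 = 1 := fun x =>
    ⟨fun hx => c.center_sq_eq_one (fun a _ => mem_top _) hsq hna' (mem_top x)
      (fun y _ => mem_center_iff.1 hx y),
    fun hx => mem_center_iff.2 (c.central x ((c.mem_V x).2 hx))⟩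
  have hZV : center G = c.V := SetLike.ext fun x => (hZ x).trans (c.mem_V x).symm
  have hcV : _root_.commutator G ≤ c.V := by
    rw [_root_.commutator_def, commutator_le]
    exact fun a ha b hb => comm_mem_of_sq hsq ha hb
  have hVc : c.V ≤ _root_.commutator G := by
    obtain ⟨x, y, hxy⟩ : ∃ x y : G, x * y ≠ y * x := by
      by_contra h
      push Not at h
      exact hna h
    have hm : ⁅x, y⁆ ∈ _root_.commutator G := commutator_mem_commutator (mem_top x) (mem_top y)
    refine c.irred (fun a ha => ?_) hm (hcV hm)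
      fun h => hxy (commutatorElement_eq_one_iff_mul_comm.1 h)
    have h := commutator_characteristic (⊤ : Subgroup G) ⊤
    exact (characteristic_iff_le_comap.1 h φ) ha
  have hVΦ : c.V ≤ frattini G := hVc.trans (CfsgLib.PGroup.commutator_le_frattini c.pG)
  have hΦV : frattini G ≤ c.V := by
    intro g hg
    by_contra hgV
    obtain ⟨X, hgX, hVX, hmax⟩ := exists_maximal (fun X : Subgroup G => g ∉ X) (H₀ := c.V) hgV
    have hbig : ∀ Y : Subgroup G, X < Y → g ∈ Y := fun Y hY => by
      by_contra h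
      exact hY.ne (hmax Y h hY.le).symm
    have hconj : ∀ a : G, ∀ x ∈ X, a * x * a⁻¹ ∈ X := fun a x hx =>
      conj_mem_of_sq hsq hVX le_top (mem_top a) hx
    have hco : IsCoatom X := by
      refine ⟨fun h => hgX (h ▸ mem_top g), fun Y hY => eq_top_iff.2 fun a _ => ?_⟩
      by_cases haX : a ∈ X
      · exact hY.le haX
      have h1 : g ∈ zpowers a ⊔ X := hbig _ (right_lt_sup.2 fun h => haX (h (mem_zpowers a)))
      obtain ⟨z, ⟨i, rfl⟩, x, hx, hzx⟩ := exists_mul_of_mem_sup (fun z _ x hx => hconj z x hx) h1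
      simp only at hzx
      rcases Int.even_or_odd' i with ⟨j, rfl | rfl⟩
      · refine absurd ?_ hgX
        rw [hzx, zpow_mul, zpow_ofNat]
        exact X.mul_mem (X.zpow_mem (hVX (hsq a (mem_top a))) j) hx
      · have h2 : a ^ (2 * j) ∈ X := by
          rw [zpow_mul, zpow_ofNat]
          exact X.zpow_mem (hVX (hsq a (mem_top a))) j
        have h3 : a ^ (2 * j + 1) ∈ Y := by
          have h4 := Y.mul_mem (hbig Y hY) (Y.inv_mem (hY.le hx))
          rwa [hzx, mul_inv_cancel_right] at h4
        have h5 : a = (a ^ (2 * j))⁻¹ * a ^ (2 * j + 1) := by rw [zpow_add, zpow_one]; group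
        rw [h5]
        exact Y.mul_mem (Y.inv_mem (hY.le h2)) h3
    exact hgX (frattini_le_coatom hco hg)
  refine ⟨le_antisymm (CfsgLib.PGroup.commutator_le_frattini c.pG) (hΦV.trans hVc), ?_, hZ, h4⟩
  rw [hZV]
  exact le_antisymm hΦV hVΦ

end CfsgLib.PGroup.SuzukiExp
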